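import Mathlib.Data.Matrix.Basic
import Mathlib.Data.Matrix.Mul
import Mathlib.Algebra.CharP.Two
import Mathlib.Algebra.BigOperators.Fin
import Mathlib.Algebra.Field.Basic
import Mathlib.Data.Nat.Bitwise
import Mathlib.Tactic.Ring
import Mathlib.Tactic.LinearCombination
import Mathlib.Tactic.FinCases

/-!
# Eight by eight matrices over the field with eight elements, as natural numbers

A row is a number below `2 ^ 24` holding three bit planes, a matrix is the list of its rows.
-/

set_option autoImplicit false

namespace CfsgLib.D4Two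

open Matrix

/-- A matrix: the list of its rows. -/
abbrev Code := List ℕ

/-- The bit of a number, as a scalar. -/
def bit {K : Type*} [Zero K] [One K] (r : ℕ) (j : ℕ) : K := if r.testBit j then 1 else 0

/-- The `j`-th entry of a row. -/
def ent {K : Type*} [Field K] (α : K) (r j : ℕ) : K :=
  bit r j + α * bit r (8 + j) + α ^ 2 * bit r (16 + j)

/-- Multiplication of a row by `α`. -/
def sc (r : ℕ) : ℕ :=
  (r >>> 16 &&& 255) ^^^ (((r &&& 255) ^^^ (r >>> 16 &&& 255)) <<< 8) ^^^
    ((r >>> 8 &&& 255) <<< 16)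

/-- The selected multiples of a row. -/
def pick (r j : ℕ) (b : ℕ × ℕ × ℕ) : ℕ :=
  (if r.testBit j then b.1 else 0) ^^^ (if r.testBit (8 + j) then b.2.1 else 0) ^^^
    (if r.testBit (16 + j) then b.2.2 else 0)

/-- A row times the rows listed from the `j`-th one on. -/
def rowMul (r : ℕ) : ℕ → List (ℕ × ℕ × ℕ) → ℕ
  | _, [] => 0
  | j, b :: L => pick r j b ^^^ rowMul r (j + 1) L

/-- A row and its multiples. -/
def tri (r : ℕ) : ℕ × ℕ × ℕ := (r, sc r, sc (sc r))

/-- Rows and multiples of a matrix. -/
def tris (B : Code) : List (ℕ × ℕ × ℕ) := (List.range 8).map fun i => tri (B.getD i 0)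

/-- The product. -/
def mul (A B : Code) : Code :=
  let T := tris B
  (List.range 8).map fun i => rowMul (A.getD i 0) 0 T

/-- The sum. -/
def add (A B : Code) : Code := (List.range 8).map fun i => A.getD i 0 ^^^ B.getD i 0

/-- The identity. -/
def one : Code := [1, 2, 4, 8, 16, 32, 64, 128]

/-- The zero matrix. -/
def zero : Code := [0, 0, 0, 0, 0, 0, 0, 0]

/-- Multiplication by `α`. -/
def scale (A : Code) : Code := (List.range 8).map fun i => sc (A.getD i 0)

variable {K : Type*} [Field K]

/-- The matrix of a code. -/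
def dec (α : K) (A : Code) : Matrix (Fin 8) (Fin 8) K :=
  Matrix.of fun i j => ent α (A.getD i.1 0) j.1

theorem bit_xor [CharP K 2] (r s j : ℕ) : (bit (r ^^^ s) j : K) = bit r j + bit s j := by
  simp only [bit, Nat.testBit_xor]
  cases r.testBit j <;> cases s.testBit j <;> simp [CharTwo.add_self_eq_zero]

theorem ent_xor [CharP K 2] (α : K) (r s j : ℕ) : ent α (r ^^^ s) j = ent α r j + ent α s j := by
  simp only [ent, bit_xor]; ring

theorem ent_zero (α : K) (j : ℕ) : ent α 0 j = 0 := by simp [ent, bit]

theorem testBit_255 (j : ℕ) : (255 : ℕ).testBit j = decide (j < 8) := by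
  rw [show (255 : ℕ) = 2 ^ 8 - 1 from rfl, Nat.testBit_two_pow_sub_one]

theorem sc_bits (r : ℕ) {j : ℕ} (hj : j < 8) :
    (sc r).testBit j = r.testBit (16 + j) ∧
    (sc r).testBit (8 + j) = (r.testBit j).xor (r.testBit (16 + j)) ∧
    (sc r).testBit (16 + j) = r.testBit (8 + j) := by
  refine ⟨?_, ?_, ?_⟩ <;>
    simp [sc, Nat.testBit_xor, Nat.testBit_and, Nat.testBit_shiftRight, Nat.testBit_shiftLeft,
      testBit_255, hj,       show ¬ 8 ≤ j by omega, show ¬ 16 ≤ j by omega, show ¬ 16 ≤ 8 + j by omega,
      show ¬ 8 + j < 8 by omega, show ¬ 16 + j < 8 by omega, show 8 ≤ 16 + j by omega,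
      show ¬ 16 + j - 8 < 8 by omega]

theorem ent_sc [CharP K 2] {α : K} (hα : α ^ 3 = α + 1) (r : ℕ) {j : ℕ} (hj : j < 8) :
    ent α (sc r) j = α * ent α r j := by
  obtain ⟨h0, h1, h2⟩ := sc_bits r hj
  have hx : (if (r.testBit j).xor (r.testBit (16 + j)) then (1 : K) else 0) =
      bit r j + bit r (16 + j) := by
    simp only [bit]
    cases r.testBit j <;> cases r.testBit (16 + j) <;> simp [CharTwo.add_self_eq_zero]
  simp only [ent, bit] at hx ⊢
  rw [h0, h1, h2, hx]
  linear_combination -(if r.testBit (16 + j) = true then (1 : K) else 0) * hα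

theorem ent_pick [CharP K 2] {α : K} (hα : α ^ 3 = α + 1) (r j b : ℕ) {k : ℕ} (hk : k < 8) :
    ent α (pick r j (tri b)) k = ent α r j * ent α b k := by
  have key : ∀ (c : Bool) (x : ℕ), ent α (if c then x else 0) k =
      (if c then (1 : K) else 0) * ent α x k := by
    intro c x; cases c <;> simp [ent_zero]
  rw [show ent α r j = bit r j + α * bit r (8 + j) + α ^ 2 * bit r (16 + j) from rfl]
  simp only [pick, tri, ent_xor, key, ent_sc hα _ hk, bit]
  ring

theorem ent_rowMul [CharP K 2] {α : K} (hα : α ^ 3 = α + 1) (r : ℕ) {k : ℕ} (hk : k < 8) :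
    ∀ (L : List ℕ) (j : ℕ), ent α (rowMul r j (L.map tri)) k =
      ∑ i : Fin L.length, ent α r (j + i.1) * ent α L[i.1] k := by
  intro L
  induction L with
  | nil => intro j; simp [rowMul, ent_zero]
  | cons b L ih =>
    intro j
    simp only [List.map_cons, rowMul, ent_xor, ent_pick hα _ _ _ hk, ih]
    refine Eq.trans ?_ (Fin.sum_univ_succ (n := L.length)
      (fun i : Fin (L.length + 1) => ent α r (j + i.1) * ent α (b :: L)[i.1] k)).symm
    simp [add_assoc, add_comm 1]

theorem dec_mul [CharP K 2] {α : K} (hα : α ^ 3 = α + 1) (A B : Code) :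
    dec α (mul A B) = dec α A * dec α B := by
  ext i k
  have e : tris B = ((List.range 8).map fun i => B.getD i 0).map tri := by
    simp [tris, List.map_map, Function.comp_def]
  rw [Matrix.mul_apply]
  simp only [dec, Matrix.of_apply, mul]
  rw [List.getD_eq_getElem _ _ (by simp), List.getElem_map, List.getElem_range, e,
    ent_rowMul hα _ k.2]
  refine Fintype.sum_equiv (finCongr (by simp)) _ _ fun x => ?_
  simp

theorem dec_add [CharP K 2] (α : K) (A B : Code) : dec α (add A B) = dec α A + dec α B := by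
  ext i k
  simp only [dec, Matrix.of_apply, Matrix.add_apply, add]
  rw [List.getD_eq_getElem _ _ (by simp), List.getElem_map, List.getElem_range, ent_xor]

theorem dec_one (α : K) : dec α one = 1 := by
  ext i j
  fin_cases i <;> fin_cases j <;> simp [dec, one, ent, bit, Nat.testBit_eq_decide_div_mod_eq]

theorem dec_zero (α : K) : dec α zero = 0 := by
  ext i j
  fin_cases i <;> simp [dec, zero, ent_zero]

theorem dec_scale [CharP K 2] {α : K} (hα : α ^ 3 = α + 1) (A : Code) :
    dec α (scale A) = α • dec α A := by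
  ext i k
  simp only [dec, Matrix.of_apply, Matrix.smul_apply, scale, smul_eq_mul]
  rw [List.getD_eq_getElem _ _ (by simp), List.getElem_map, List.getElem_range, ent_sc hα _ k.2]

/-- Powers. -/
def pw (A : Code) : ℕ → Code
  | 0 => one
  | n + 1 => mul (pw A n) A

theorem dec_pw [CharP K 2] {α : K} (hα : α ^ 3 = α + 1) (A : Code) (n : ℕ) :
    dec α (pw A n) = dec α A ^ n := by
  induction n with
  | zero => rw [pw, dec_one, pow_zero]
  | succ n ih => rw [pw, dec_mul hα, ih, pow_succ]

/-- `1 + A + ⋯ + A ^ (n - 1)`. -/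
def psum (A : Code) : ℕ → Code
  | 0 => zero
  | n + 1 => add (psum A n) (pw A n)

theorem dec_psum [CharP K 2] {α : K} (hα : α ^ 3 = α + 1) (A : Code) (n : ℕ) :
    dec α (psum A n) = ∑ i ∈ Finset.range n, dec α A ^ i := by
  induction n with
  | zero => rw [psum, dec_zero, Finset.range_zero, Finset.sum_empty]
  | succ n ih => rw [psum, dec_add, ih, dec_pw hα, Finset.sum_range_succ]

/-- The product of a list. -/
def prd : List Code → Code
  | [] => one
  | A :: L => mul A (prd L)

theorem dec_prd [CharP K 2] {α : K} (hα : α ^ 3 = α + 1) (L : List Code) :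
    dec α (prd L) = (L.map (dec α)).prod := by
  induction L with
  | nil => simp [prd, dec_one]
  | cons A L ih => rw [prd, dec_mul hα, ih, List.map_cons, List.prod_cons]

/-- A code is determined by its decoded entries. -/
theorem ent_inj {α : K} (hli : ∀ a b c : Bool,
    (if a then 1 else 0) + α * (if b then 1 else 0) + α ^ 2 * (if c then 1 else 0) = (0 : K) →
      a = false ∧ b = false ∧ c = false) [CharP K 2] {r s : ℕ} (hr : r < 2 ^ 24) (hs : s < 2 ^ 24)
    (h : ∀ j < 8, ent α r j = ent α s j) : r = s := by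
  have hx : ∀ j < 8, ent α (r ^^^ s) j = 0 := fun j hj => by
    rw [ent_xor, h j hj, CharTwo.add_self_eq_zero]
  refine Nat.eq_of_testBit_eq fun i => ?_
  by_cases hi : i < 24
  · have key : (r ^^^ s).testBit i = false := by
      have := hli _ _ _ (hx (i % 8) (Nat.mod_lt _ (by omega)))
      rcases (by omega : i = i % 8 ∨ i = 8 + i % 8 ∨ i = 16 + i % 8) with e | e | e <;>
        rw [e]
      · exact this.1
      · exact this.2.1
      · exact this.2.2
    rw [Nat.testBit_xor] at key
    simpa using key
  · have hp : (2 : ℕ) ^ 24 ≤ 2 ^ i := Nat.pow_le_pow_right (by omega) (by omega)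
    rw [Nat.testBit_eq_false_of_lt (by omega), Nat.testBit_eq_false_of_lt (by omega)]

end CfsgLib.D4Two
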