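import Cfsg.Agent.D4Two.Involutions
import Cfsg.Agent.TrialityInvol.Classes

/-!
# The centralizers of the two root involutions of `³D₄(2)`
-/

set_option autoImplicit false
set_option linter.unusedSectionVars false
set_option maxRecDepth 4000

namespace CfsgLib.D4Two

open Cfsg.Lie CfsgLib.Chevalley CfsgLib.GraphTwist CfsgLib.TrialityInvol Module

universe u

variable {K : Type u} [Field K] [Fintype K] [CharP K 2] (hK : Fintype.card K = 8) {α : K}
  (hα : α ^ 3 = α + 1)

theorem exists_pow_eq {G : Type*} [Group G] [Finite G] {p : ℕ} [hp : Fact p.Prime] {g w : G}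
    (hw : w ^ p = 1) (hg : g ∈ Subgroup.zpowers w) (hne : g ≠ 1) : ∃ l : ℕ, g ^ l = w := by
  have hw1 : w ≠ 1 := fun h => hne (by simpa [h] using hg)
  have hle : Subgroup.zpowers g ≤ Subgroup.zpowers w := Subgroup.zpowers_le.2 hg
  have how : orderOf w = p := orderOf_eq_prime hw hw1
  have hog : orderOf g = p := by
    have h1 : orderOf g ∣ p := how ▸ orderOf_dvd_of_mem_zpowers hg
    exact ((Nat.dvd_prime hp.out).1 h1).resolve_left (by simpa using hne)
  have heq : Subgroup.zpowers g = Subgroup.zpowers w :=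
    Subgroup.eq_of_le_of_card_ge hle (by rw [Nat.card_zpowers, Nat.card_zpowers, how, hog])
  exact mem_powers_iff_mem_zpowers.2 (heq ▸ Subgroup.mem_zpowers w)

theorem checks_class_nonzero : clsLong.all (fun A => differ A zero) = true := by
  decide +kernel

include hK hα

/-- The fixed space of the short root element has dimension at most four. -/
theorem short_fix {z : ↥(twistedD4 K 2)} (hz : nat8 hK z = act α (wC wShort)) :
    finrank K (Fix (nat8 hK z)) ≤ 4 := by
  have hp := checks_elements.2.2.2.2.2.2.2.2.2.2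
  refine (Submodule.finrank_mono fun v hv => ?_).trans (finrank_range_of_peel hα hp)
  rw [mem_Fix, hz] at hv
  refine ⟨v, ?_⟩
  simp [act_add, act_mul hα, act_one, hv, ← two_smul K, CharTwo.two_eq_zero]

/-- The members of the class of the long root element. -/
theorem class_bound {zl : ↥(twistedD4 K 2)} (hz : nat8 hK zl = act α (wC wLong)) :
    819 ≤ (Subgroup.centralizer ({zl} : Set ↥(twistedD4 K 2))).index := by
  have := finite_group hK
  obtain ⟨hder, hlen, hord, hlt, hinc, hwf, hinv⟩ := checks_class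
  simp only [List.all_eq_true, decide_eq_true_eq] at hlt hwf hinv
  have hsq : ∀ j, mul (genC.getD j zero) (genC.getD j zero) = one ∨ genC.getD j zero = zero := by
    intro j
    by_cases hj : j < genC.length
    · rw [List.getD_eq_getElem _ _ hj]
      exact Or.inl (by simpa using hinv _ (List.getElem_mem hj))
    · exact Or.inr (List.getD_eq_default _ _ (by omega))
  have hconj : ∀ i < clsLong.length, ∃ x : ↥(twistedD4 K 2),
      nat8 hK (x * zl * x⁻¹) = act α (clsLong.getD i []) ∨ act α (clsLong.getD i []) = 0 := by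
    refine derived_getD hder (fun A => ∃ x : ↥(twistedD4 K 2),
      nat8 hK (x * zl * x⁻¹) = act α A ∨ act α A = 0) ⟨1, Or.inl (by simpa using hz)⟩
      fun A j hA => ?_
    obtain ⟨x, hx | hx⟩ := hA
    rotate_left
    · exact ⟨x, Or.inr (by rw [act_mul hα, act_mul hα, hx, mul_zero, zero_mul])⟩
    by_cases hj : j < 8
    · refine ⟨letterEl hα ⟨j, hj⟩ * x, Or.inl ?_⟩
      have hg : nat8 hK (letterEl hα ⟨j, hj⟩) = act α (genC.getD j zero) :=
        nat8_letter hK hα ⟨j, hj⟩
      have hi : (letterEl hα ⟨j, hj⟩ : ↥(twistedD4 K 2))⁻¹ = letterEl hα ⟨j, hj⟩ := by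
        refine inv_eq_of_mul_eq_one_right (nat8_injective hK ?_)
        rcases hsq j with h | h
        · rw [map_mul, hg, ← act_mul hα, h, act_one, map_one]
        · exfalso
          rw [h, act_zero] at hg
          have := congrArg (nat8 hK) (mul_inv_cancel (letterEl hα ⟨j, hj⟩))
          rw [map_mul, hg, zero_mul, map_one] at this
          exact zero_ne_one this
      rw [mul_inv_rev, hi, show ∀ a b c d : ↥(twistedD4 K 2), a * b * c * (d * a) =
        a * (b * c * d) * a from fun a b c d => by group, map_mul, map_mul, hx, hg, act_mul hα,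
        act_mul hα]
    · refine ⟨x, Or.inr ?_⟩
      rw [List.getD_eq_default _ _ (by simp [genC]; omega), act_mul hα, act_mul hα, act_zero,
        mul_zero]
  have hne0 : ∀ i < clsLong.length, ∃ x : ↥(twistedD4 K 2),
      nat8 hK (x * zl * x⁻¹) = act α (clsLong.getD i []) := by
    intro i hi
    obtain ⟨x, hx | hx⟩ := hconj i hi
    · exact ⟨x, hx⟩
    exfalso
    have hd := List.all_eq_true.1 checks_class_nonzero _ (List.getElem_mem hi)
    refine act_ne hα hd ?_
    rw [List.getD_eq_getElem _ _ hi] at hx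
    rw [hx, act_zero]
  have hnd : (clsOrder.map fun a => key (clsLong.getD a [])).Nodup := by
    have key' : ∀ os : List ℕ, increasing clsLong os = true →
        (os.map fun a => key (clsLong.getD a [])).IsChain (· < ·) := by
      intro os
      induction os with
      | nil => intro _; exact List.IsChain.nil
      | cons a t ih =>
        cases t with
        | nil => intro _; exact List.IsChain.singleton _
        | cons b t =>
          intro h
          simp only [increasing, Bool.and_eq_true, decide_eq_true_eq] at h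
          exact List.IsChain.cons_cons h.1 (ih h.2)
    exact ((List.isChain_iff_pairwise.1 (key' _ hinc)).imp fun h => ne_of_lt h)
  choose x hx using hne0
  let φ : Fin clsOrder.length → ↥(twistedD4 K 2) ⧸ Subgroup.centralizer ({zl} : Set _) := fun j =>
    QuotientGroup.mk (x clsOrder[j.1] ((hlt _ (List.getElem_mem j.2)).trans_eq hlen.symm))
  have hφ : Function.Injective φ := by
    intro i j e
    rw [QuotientGroup.eq, Subgroup.mem_centralizer_singleton_iff] at e
    have h1 := hx clsOrder[i.1] ((hlt _ (List.getElem_mem i.2)).trans_eq hlen.symm)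
    have h2 := hx clsOrder[j.1] ((hlt _ (List.getElem_mem j.2)).trans_eq hlen.symm)
    generalize x clsOrder[i.1] _ = a at e h1
    generalize x clsOrder[j.1] _ = b at e h2
    have e' : a * zl * a⁻¹ = b * zl * b⁻¹ := by
      have : a * ((a⁻¹ * b) * zl) * b⁻¹ = a * (zl * (a⁻¹ * b)) * b⁻¹ := by rw [e]
      simpa [mul_assoc] using this.symm
    have hi' : clsOrder[i.1] < clsLong.length := (hlt _ (List.getElem_mem i.2)).trans_eq hlen.symm
    have hj' : clsOrder[j.1] < clsLong.length := (hlt _ (List.getElem_mem j.2)).trans_eq hlen.symm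
    have e1 := dec_of_act (h1.symm.trans ((congrArg (nat8 hK) e').trans h2))
    rw [List.getD_eq_getElem _ _ hi', List.getD_eq_getElem _ _ hj'] at e1
    have e2 := eq_of_dec_eq (hli hα) (hwf _ (List.getElem_mem hi')) (hwf _ (List.getElem_mem hj')) e1
    refine Fin.ext ((List.Nodup.getElem_inj_iff hnd (hi := by rw [List.length_map]; exact i.2)
      (hj := by rw [List.length_map]; exact j.2)).1 ?_)
    rw [List.getElem_map, List.getElem_map, List.getD_eq_getElem _ _ hi',
      List.getD_eq_getElem _ _ hj', e2]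
  have := Nat.card_le_card_of_injective φ hφ
  rwa [Nat.card_fin, hord] at this

/-- The order of the centralizer of the long root element, and its elements of order 3 and 7. -/
theorem long_centralizer {zl : ↥(twistedD4 K 2)} (hl : (zl : GL chevD4.Idx K) = yf (1 : K))
    (hz : nat8 hK zl = act α (wC wLong)) {g : ↥(twistedD4 K 2)} (hg : g * zl = zl * g)
    (hne : g ≠ 1) :
    (g ^ 3 = 1 → finrank K (Fix (nat8 hK g)) ≤ 2) ∧ (g ^ 7 = 1 → Fix (nat8 hK g) = ⊥) := by
  have := finite_group hK
  obtain ⟨-, -, t7, t7', t7s, t7c, n9, n9', n9s, n9c, -⟩ := checks_elements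
  let C : Subgroup ↥(twistedD4 K 2) := Subgroup.centralizer {zl}
  have hmemC : ∀ w : List (Fin 8), mul (wC w) (wC wLong) = mul (wC wLong) (wC w) →
      wordEl hα w ∈ C := fun w h => by
    rw [Subgroup.mem_centralizer_singleton_iff]
    refine nat8_injective hK ?_
    rw [map_mul, map_mul, nat8_word hK hα, hz, ← act_mul hα, h, act_mul hα]
  obtain ⟨h, hh⟩ : ∃ h : C, (h : ↥(twistedD4 K 2)) = wordEl hα wTorus := ⟨⟨_, hmemC _ t7c⟩, rfl⟩
  obtain ⟨n, hn⟩ : ∃ n : C, (n : ↥(twistedD4 K 2)) = wordEl hα wNine := ⟨⟨_, hmemC _ n9c⟩, rfl⟩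
  have hpw : ∀ (w : List (Fin 8)) (k : ℕ),
      nat8 hK (wordEl hα w ^ k) = act α (pw (wC w) k) := fun w k => by
    rw [map_pow, nat8_word hK hα, act_pw hα]
  have : Fact (Nat.Prime 7) := ⟨by norm_num⟩
  have : Fact (Nat.Prime 3) := ⟨by norm_num⟩
  have hh7 : h ^ 7 = 1 := Subtype.ext (nat8_injective hK (by
    rw [Subgroup.coe_pow, hh, hpw, t7, act_one, Subgroup.coe_one, map_one]))
  have hh1 : h ≠ 1 := fun e => act_ne hα t7' (by
    rw [act_one, ← nat8_word hK hα, ← hh, e, Subgroup.coe_one, map_one])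
  have hn9 : n ^ 9 = 1 := Subtype.ext (nat8_injective hK (by
    rw [Subgroup.coe_pow, hn, hpw, n9, act_one, Subgroup.coe_one, map_one]))
  have hn3 : n ^ 3 ≠ 1 := fun e => act_ne hα n9' (by
    rw [act_one, ← hpw, ← hn, ← Subgroup.coe_pow, e, Subgroup.coe_one, map_one])
  have ho7 : orderOf h = 7 := orderOf_eq_prime hh7 hh1
  have ho9 : orderOf n = 9 := orderOf_eq_prime_pow (p := 3) (n := 1) (by simpa using hn3) hn9
  -- the 2-part
  obtain ⟨Φ, e, hf, hfix, hcard, -⟩ :=
    twistedD4_eq_tG (q := 2) Nat.prime_two.isPrimePow (show Fintype.card K = 2 ^ 3 by rw [hK]; rfl)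
  have hU : 4096 ∣ Nat.card C := by
    let U : Subgroup ↥(twistedD4 K 2) := Φ.U1.subgroupOf (twistedD4 K 2)
    have hUC : U ≤ C := fun a ha => Subgroup.mem_centralizer_singleton_iff.2 (Subtype.ext (by
      rw [Subgroup.coe_mul, Subgroup.coe_mul, hl]; exact (commute_yf Φ ha).symm))
    have := Subgroup.card_dvd_of_le hUC
    rw [Nat.card_congr (Subgroup.subgroupOfEquivOfLe (e ▸ Φ.U1_le_tG)).toEquiv,
      Φ.natCard_u1 hfix hcard] at this
    exact this
  have hdvd : 258048 ∣ Nat.card C :=
    Nat.Coprime.mul_dvd_of_dvd_of_dvd (m := 4096) (n := 63) (by norm_num) hU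
      (Nat.Coprime.mul_dvd_of_dvd_of_dvd (m := 9) (n := 7) (by norm_num) (ho9 ▸ orderOf_dvd_natCard n)
        (ho7 ▸ orderOf_dvd_natCard h))
  have hcardC : Nat.card C = 258048 := by
    have h1 := Subgroup.card_mul_index C
    rw [card_group hK] at h1
    have h2 : 819 ≤ C.index := class_bound hK hα hz
    refine le_antisymm ?_ (Nat.le_of_dvd Nat.card_pos hdvd)
    nlinarith
  let g' : C := ⟨g, Subgroup.mem_centralizer_singleton_iff.2 hg⟩
  have hne' : g' ≠ 1 := fun e => hne (congrArg Subtype.val e)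
  refine ⟨fun h3 => ?_, fun h7 => ?_⟩
  · have hg3 : g' ^ 3 = 1 := Subtype.ext h3
    obtain ⟨x, hx⟩ := conj_mem_of_card (Subgroup.zpowers n) 3 2
      (by rw [Nat.card_zpowers, ho9]; rfl) (by rw [hcardC]; norm_num) (j := 1) (g := g')
      (by simpa using hg3)
    obtain ⟨k, hk⟩ := mem_powers_iff_mem_zpowers.2 hx
    have hk3 : 9 ∣ k * 3 := ho9 ▸ orderOf_dvd_of_pow_eq_one (by
      rw [pow_mul, show n ^ k = x * g' * x⁻¹ from hk, conj_pow, hg3, mul_one, mul_inv_cancel])
    obtain ⟨j, rfl⟩ : 3 ∣ k := by omega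
    have hmem : x * g' * x⁻¹ ∈ Subgroup.zpowers (n ^ 3) :=
      ⟨j, by show (n ^ 3) ^ (j : ℤ) = _; rw [zpow_natCast, ← pow_mul]; exact hk⟩
    obtain ⟨l, hl'⟩ := exists_pow_eq (p := 3) (by rw [← pow_mul, hn9]) hmem
      (fun e => hne' (conj_eq_one_iff.1 e))
    have hl2 : ((x * g' * x⁻¹ : C) : ↥(twistedD4 K 2)) ^ l = wordEl hα wNine ^ 3 := by
      rw [← Subgroup.coe_pow, hl', Subgroup.coe_pow, hn]
    rw [← fix_conj (nat8 hK) (x : ↥(twistedD4 K 2))]
    refine ((Submodule.finrank_mono (fix_le_fix_pow _ l)).trans ?_)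
    rw [← map_pow]
    show finrank K (Fix (nat8 hK (((x * g' * x⁻¹ : C) : ↥(twistedD4 K 2)) ^ l))) ≤ 2
    rw [hl2, hpw]
    refine (Submodule.finrank_mono ?_).trans (finrank_range_of_peel hα n9s)
    rw [act_psum hα]
    exact fix_le_range _ (by decide)
  · have hg7 : g' ^ 7 = 1 := Subtype.ext h7
    obtain ⟨x, hx⟩ := conj_mem_of_card (Subgroup.zpowers h) 7 1
      (by rw [Nat.card_zpowers, ho7]; rfl) (by rw [hcardC]; norm_num) (j := 1) (g := g')
      (by simpa using hg7)
    obtain ⟨l, hl'⟩ := exists_pow_eq (p := 7) hh7 hx (fun e => hne' (conj_eq_one_iff.1 e))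
    have hl2 : ((x * g' * x⁻¹ : C) : ↥(twistedD4 K 2)) ^ l = wordEl hα wTorus := by
      rw [← Subgroup.coe_pow, hl', hh]
    rw [← fix_conj_bot (nat8 hK) (x := (x : ↥(twistedD4 K 2)))]
    refine le_bot_iff.1 ((fix_le_fix_pow _ l).trans (le_of_eq ?_))
    rw [← map_pow]
    show Fix (nat8 hK (((x * g' * x⁻¹ : C) : ↥(twistedD4 K 2)) ^ l)) = ⊥
    rw [hl2, nat8_word hK hα]
    exact fix_eq_bot_of_sum_zero (m := 7) (by decide) (by rw [← act_psum hα, t7s, act_zero])

end CfsgLib.D4Two
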