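import Mathlib.Algebra.CharP.Lemmas
import Mathlib.Algebra.CharP.Two
import Mathlib.LinearAlgebra.Eigenspace.Basic
import Mathlib.LinearAlgebra.FiniteDimensional.Lemmas
import Mathlib.LinearAlgebra.Matrix.ToLin
import Mathlib.Algebra.Ring.GeomSum
import Mathlib.Tactic.Abel
import Mathlib.Tactic.LinearCombination

/-!
# Fixed spaces of elements of finite order in characteristic two
-/

set_option autoImplicit false

namespace CfsgLib.D4Two

open Module

section Ring

variable {R : Type*} [Ring R] [CharP R 2]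

theorem sum_range_two_pow (x : R) (a : ℕ) :
    ∑ i ∈ Finset.range (2 ^ a), x ^ i = (x + 1) ^ (2 ^ a - 1) := by
  induction a with
  | zero => simp
  | succ a ih =>
    have h2 : 2 ^ (a + 1) = 2 ^ a + 2 ^ a := by omega
    have e : (x + 1) ^ (2 ^ a) = x ^ (2 ^ a) + 1 := by
      rw [add_pow_char_pow_of_commute 2 a (Commute.one_right x), one_pow]
    have hs : 2 ^ a + 2 ^ a - 1 = 2 ^ a + (2 ^ a - 1) := by
      have := Nat.one_le_two_pow (n := a); omega
    rw [h2, Finset.sum_range_add, ih, hs, pow_add, e, add_mul, one_mul]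
    simp only [pow_add, ← Finset.mul_sum, ih]
    abel

omit [CharP R 2] in
theorem sum_range_mul_split (x : R) (k m : ℕ) :
    ∑ i ∈ Finset.range (k * m), x ^ i =
      (∑ i ∈ Finset.range k, x ^ i) * ∑ j ∈ Finset.range m, (x ^ k) ^ j := by
  induction m with
  | zero => simp
  | succ m ih =>
    rw [Nat.mul_succ, Finset.sum_range_add, ih, Finset.sum_range_succ, mul_add, Finset.sum_mul
      (s := Finset.range k) (a := (x ^ k) ^ m)]
    congr 1
    refine Finset.sum_congr rfl fun i _ => ?_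
    rw [← pow_mul, ← pow_add, Nat.add_comm]

omit [CharP R 2] in
theorem mul_geom_of_pow_one (y : R) {m : ℕ} (hy : y ^ m = 1) :
    y * (∑ j ∈ Finset.range m, y ^ j) = ∑ j ∈ Finset.range m, y ^ j := by
  have h := mul_geom_sum y m
  rw [hy, sub_self, sub_mul, one_mul, sub_eq_zero] at h
  exact h

theorem natCast_odd {m : ℕ} (hm : Odd m) : (m : R) = 1 := by
  obtain ⟨k, rfl⟩ := hm
  simp [CharTwo.two_eq_zero]

end Ring

variable {K : Type*} [Field K] [CharP K 2] {V : Type*} [AddCommGroup V] [Module K V]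

/-- The fixed space. -/
def Fix (f : End K V) : Submodule K V := LinearMap.ker (f - 1)

omit [CharP K 2] in
theorem mem_Fix {f : End K V} {v : V} : v ∈ Fix f ↔ f v = v := by
  simp [Fix, sub_eq_zero]

omit [CharP K 2] in
theorem pow_apply_fixed {f : End K V} {v : V} (hv : f v = v) : ∀ i : ℕ, (f ^ i) v = v
  | 0 => rfl
  | i + 1 => by rw [pow_succ, Module.End.mul_apply, hv, pow_apply_fixed hv i]

omit [CharP K 2] in
theorem fix_le_fix_pow (f : End K V) (i : ℕ) : Fix f ≤ Fix (f ^ i) := fun _ hv =>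
  mem_Fix.2 (pow_apply_fixed (mem_Fix.1 hv) i)

theorem sum_pow_apply_fixed {f : End K V} {v : V} (hv : f v = v) {m : ℕ} (hm : Odd m) :
    (∑ j ∈ Finset.range m, f ^ j) v = v := by
  rw [LinearMap.sum_apply]
  simp only [pow_apply_fixed hv, Finset.sum_const, Finset.card_range]
  rw [← Nat.cast_smul_eq_nsmul K, natCast_odd hm, one_smul]

theorem fix_le_range (f : End K V) {m : ℕ} (hm : Odd m) :
    Fix f ≤ LinearMap.range (∑ j ∈ Finset.range m, f ^ j) :=
  fun v hv => ⟨v, sum_pow_apply_fixed (mem_Fix.1 hv) hm⟩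

theorem fix_eq_bot_of_sum_zero {f : End K V} {m : ℕ} (hm : Odd m)
    (h : (∑ j ∈ Finset.range m, f ^ j) = 0) : Fix f = ⊥ := by
  refine le_bot_iff.1 ((fix_le_range f hm).trans ?_)
  rw [h, LinearMap.range_zero]

omit [CharP K 2] in
/-- A criterion for the orbit sum to vanish. -/
theorem sum_eq_zero_of (f : End K V) {a m : ℕ} (hm : f ^ (2 ^ a * m) = 1) [CharP (End K V) 2]
    (h : ∀ v ∈ Fix (f ^ 2 ^ a), ((f + 1) ^ (2 ^ a - 1) : End K V) v = 0) :
    ∑ i ∈ Finset.range (2 ^ a * m), f ^ i = 0 := by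
  rw [sum_range_mul_split, sum_range_two_pow]
  ext v
  rw [Module.End.mul_apply, LinearMap.zero_apply]
  refine h _ (mem_Fix.2 ?_)
  rw [← Module.End.mul_apply, mul_geom_of_pow_one _ (by rw [← pow_mul, hm])]

/-! ### Nilpotent maps on small subspaces -/

omit [CharP K 2] in
theorem map_lt {N : End K V} {W : Submodule K V} (hinv : ∀ v ∈ W, N v ∈ W) {k : ℕ}
    (hnil : ∀ v ∈ W, (N ^ k) v = 0) (hW : W ≠ ⊥) : W.map N < W := by
  refine lt_of_le_of_ne (Submodule.map_le_iff_le_comap.2 hinv) fun e => hW ?_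
  have hp : ∀ i : ℕ, W.map (N ^ i) = W := by
    intro i
    induction i with
    | zero => exact Submodule.map_id W
    | succ i ih => rw [pow_succ, Module.End.mul_eq_comp, Submodule.map_comp, e, ih]
  rw [← hp k, Submodule.eq_bot_iff]
  rintro _ ⟨v, hv, rfl⟩
  exact hnil v hv

omit [CharP K 2] in
theorem map_inv_of_commute {N T : End K V} (hc : Commute N T) {W : Submodule K V}
    (hT : ∀ v ∈ W, T v ∈ W) : ∀ v ∈ W.map N, T v ∈ W.map N := by
  rintro _ ⟨v, hv, rfl⟩
  exact ⟨T v, hT v hv, LinearMap.congr_fun hc.eq v⟩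

variable [FiniteDimensional K V]

omit [CharP K 2] in
theorem sq_eq_zero_of_finrank_le_two {N : End K V} {W : Submodule K V}
    (hinv : ∀ v ∈ W, N v ∈ W) {k : ℕ} (hnil : ∀ v ∈ W, (N ^ k) v = 0)
    (hd : finrank K W ≤ 2) : ∀ v ∈ W, (N ^ 2) v = 0 := by
  by_cases hW : W = ⊥
  · intro v hv; rw [hW, Submodule.mem_bot] at hv; rw [hv, map_zero]
  have h1 := Submodule.finrank_lt_finrank_of_lt (map_lt hinv hnil hW)
  intro v hv
  by_contra hne
  have hinv' := map_inv_of_commute (Commute.refl N) hinv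
  have hle : W.map N ≤ W := Submodule.map_le_iff_le_comap.2 hinv
  have hne1 : W.map N ≠ ⊥ := fun e => hne (by
    have h0 : N v ∈ W.map N := Submodule.mem_map_of_mem hv
    rw [e, Submodule.mem_bot] at h0
    rw [pow_two, Module.End.mul_apply, h0, map_zero])
  have h2 := Submodule.finrank_lt_finrank_of_lt
    (map_lt hinv' (fun w hw => hnil w (hle hw)) hne1)
  have h3 : (W.map N).map N ≠ ⊥ := fun e => hne (by
    rw [pow_two, Module.End.mul_apply]
    exact (Submodule.mem_bot K).1 (e ▸ Submodule.mem_map_of_mem (Submodule.mem_map_of_mem hv)))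
  have := Submodule.one_le_finrank_iff.2 h3
  omega

omit [CharP K 2] in
/-- A nilpotent map commuting with a map without eigenvectors squares to zero in dimension four. -/
theorem sq_eq_zero_of_finrank_le_four {N T : End K V} (hc : Commute N T) {W : Submodule K V}
    (hinv : ∀ v ∈ W, N v ∈ W) (hT : ∀ v ∈ W, T v ∈ W) {k : ℕ}
    (hnil : ∀ v ∈ W, (N ^ k) v = 0) (heig : ∀ v ∈ W, ∀ c : K, T v = c • v → v = 0)
    (hd : finrank K W ≤ 4) : ∀ v ∈ W, (N ^ 2) v = 0 := by
  have key : ∀ X : Submodule K V, X ≤ W → (∀ v ∈ X, T v ∈ X) → X ≠ ⊥ → 2 ≤ finrank K X := by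
    intro X hX hTX hne
    by_contra hlt
    have h1 : finrank K X = 1 := by
      have := Submodule.one_le_finrank_iff.2 hne; omega
    obtain ⟨⟨w, hw⟩, hw0, hall⟩ := finrank_eq_one_iff'.1 h1
    obtain ⟨c, hc'⟩ := hall ⟨T w, hTX w hw⟩
    exact hw0 (Subtype.ext (heig w (hX hw) c (congrArg Subtype.val hc').symm))
  intro v hv
  by_contra hne
  have hle : W.map N ≤ W := Submodule.map_le_iff_le_comap.2 hinv
  have hinv' := map_inv_of_commute (Commute.refl N) hinv
  have hT1 := map_inv_of_commute hc hT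
  have hT2 := map_inv_of_commute hc hT1
  have hW : W ≠ ⊥ := fun e => hne (by
    rw [e, Submodule.mem_bot] at hv
    rw [hv, map_zero])
  have h3 : (W.map N).map N ≠ ⊥ := fun e => hne (by
    rw [pow_two, Module.End.mul_apply]
    exact (Submodule.mem_bot K).1 (e ▸ Submodule.mem_map_of_mem (Submodule.mem_map_of_mem hv)))
  have hne1 : W.map N ≠ ⊥ := fun e => h3 (by rw [e, Submodule.map_bot])
  have d1 := Submodule.finrank_lt_finrank_of_lt (map_lt hinv hnil hW)
  have d2 := Submodule.finrank_lt_finrank_of_lt (map_lt hinv' (fun w hw => hnil w (hle hw)) hne1)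
  have d3 := key _ ((Submodule.map_mono hle).trans hle) hT2 h3
  -- the kernel in `W` is a line stable under `T`
  let X : Submodule K V := W ⊓ LinearMap.ker N
  have hsum : finrank K (W.map N) + finrank K X = finrank K W := by
    have h := LinearMap.finrank_range_add_finrank_ker (N.domRestrict W)
    rw [LinearMap.range_domRestrict] at h
    rw [← h]
    congr 1
    refine LinearEquiv.finrank_eq ?_
    rw [LinearMap.ker_domRestrict]
    exact (Submodule.comapSubtypeEquivOfLe (inf_le_left : X ≤ W)).symm.trans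
      (LinearEquiv.ofEq _ _ (by simp [Submodule.comap_inf]))
  have hX1 : X ≠ ⊥ := fun e => by
    rw [e, finrank_bot] at hsum; omega
  have := key X inf_le_left (fun w hw => ⟨hT w hw.1, by
    show N (T w) = 0
    rw [show N (T w) = T (N w) from LinearMap.congr_fun hc.eq w, (hw.2 : N w = 0), map_zero]⟩) hX1
  omega

omit [CharP K 2] [FiniteDimensional K V] in
theorem exists_killed {N : End K V} : ∀ (k : ℕ) {X : Submodule K V}, (∀ v ∈ X, N v ∈ X) →
    (∀ v ∈ X, (N ^ k) v = 0) → X ≠ ⊥ → ∃ v ∈ X, v ≠ 0 ∧ N v = 0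
  | 0, X, _, h0, hX => by
    obtain ⟨v, hv, hne⟩ := Submodule.exists_mem_ne_zero_of_ne_bot hX
    exact absurd (h0 v hv) hne
  | k + 1, X, hi, h0, hX => by
    by_cases h : ∀ v ∈ X, (N ^ k) v = 0
    · exact exists_killed k hi h hX
    · push Not at h
      obtain ⟨v, hv, hne⟩ := h
      have hmem : ∀ j : ℕ, (N ^ j) v ∈ X := fun j => by
        induction j with
        | zero => exact hv
        | succ j ih => rw [pow_succ', Module.End.mul_apply]; exact hi _ ih
      refine ⟨(N ^ k) v, hmem k, hne, ?_⟩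
      rw [← Module.End.mul_apply, ← pow_succ']; exact h0 v hv

end CfsgLib.D4Two
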