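import Cfsg.Agent.D4Two.Calc
import Cfsg.Agent.D4Two.Linear
import Mathlib.Algebra.CharP.Algebra

/-!
# What the computations on codes mean
-/

set_option autoImplicit false

namespace CfsgLib.D4Two

open Module Matrix

variable {K : Type*} [Field K]

/-- The linear map of a code. -/
noncomputable def act (α : K) (A : Code) : End K (Fin 8 → K) := Matrix.toLinAlgEquiv' (dec α A)

variable [CharP K 2] {α : K}

instance : CharP (End K (Fin 8 → K)) 2 :=
  charP_of_injective_algebraMap (algebraMap K _).injective 2

theorem act_mul (hα : α ^ 3 = α + 1) (A B : Code) : act α (mul A B) = act α A * act α B := by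
  rw [act, dec_mul hα, map_mul]; rfl

theorem act_add (α : K) (A B : Code) : act α (add A B) = act α A + act α B := by
  rw [act, dec_add, map_add]; rfl

omit [CharP K 2] in
theorem act_one (α : K) : act α one = 1 := by rw [act, dec_one, map_one]

omit [CharP K 2] in
theorem act_zero (α : K) : act α zero = 0 := by rw [act, dec_zero, map_zero]

theorem act_pw (hα : α ^ 3 = α + 1) (A : Code) (n : ℕ) : act α (pw A n) = act α A ^ n := by
  rw [act, dec_pw hα, map_pow]; rfl

theorem act_psum (hα : α ^ 3 = α + 1) (A : Code) (n : ℕ) :
    act α (psum A n) = ∑ i ∈ Finset.range n, act α A ^ i := by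
  simp only [act, dec_psum hα, map_sum, map_pow]

/-- The code of an entry. -/
def ec (r j : ℕ) : ℕ :=
  (if r.testBit j then 1 else 0) + (if r.testBit (8 + j) then 2 else 0) +
    (if r.testBit (16 + j) then 4 else 0)

/-- A scalar from its code. -/
def sval (α : K) (c : ℕ) : K := bit c 0 + α * bit c 1 + α ^ 2 * bit c 2

omit [CharP K 2] in
theorem sval_ec (α : K) (r j : ℕ) : sval α (ec r j) = ent α r j := by
  have key : ∀ a b c : Bool,
      sval α ((if a then 1 else 0) + (if b then 2 else 0) + (if c then 4 else 0)) =
        (if a then (1 : K) else 0) + α * (if b then 1 else 0) + α ^ 2 * (if c then 1 else 0) := by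
    intro a b c
    cases a <;> cases b <;> cases c <;> simp [sval, bit, Nat.testBit_eq_decide_div_mod_eq]
  exact key _ _ _

/-- A scalar times a row. -/
def scal (c r : ℕ) : ℕ :=
  (if c.testBit 0 then r else 0) ^^^ (if c.testBit 1 then sc r else 0) ^^^
    (if c.testBit 2 then sc (sc r) else 0)

theorem ent_scal (hα : α ^ 3 = α + 1) (c r : ℕ) {j : ℕ} (hj : j < 8) :
    ent α (scal c r) j = sval α c * ent α r j := by
  have key : ∀ (b : Bool) (x : ℕ), ent α (if b then x else 0) j =
      (if b then (1 : K) else 0) * ent α x j := by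
    intro b x; cases b <;> simp [ent_zero]
  simp only [scal, ent_xor, key, ent_sc hα _ hj, sval, bit]
  ring

/-- A scalar times a matrix. -/
def scalM (c : ℕ) (A : Code) : Code := (List.range 8).map fun i => scal c (A.getD i 0)

theorem act_scalM (hα : α ^ 3 = α + 1) (c : ℕ) (A : Code) :
    act α (scalM c A) = sval α c • act α A := by
  rw [act, act, ← map_smul]
  congr 1
  ext i k
  simp only [dec, Matrix.of_apply, Matrix.smul_apply, scalM, smul_eq_mul]
  rw [List.getD_eq_getElem _ _ (by simp), List.getElem_map, List.getElem_range,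
    ent_scal hα _ _ k.2]

/-- Remove the rank one matrix with column `j` and row `b`. -/
def step1 (A : Code) (j b : ℕ) : Code :=
  (List.range 8).map fun l => A.getD l 0 ^^^ scal (ec (A.getD l 0) j) b

/-- The inverse of a scalar. -/
def inv8 (c : ℕ) : ℕ := [0, 1, 5, 6, 7, 2, 3, 4].getD c 0

/-- A pivot. -/
def pivot (A : Code) : ℕ × ℕ :=
  let i := (List.range 8).find? fun l => A.getD l 0 != 0
  let r := A.getD (i.getD 0) 0
  let j := ((List.range 8).find? fun j => ec r j != 0).getD 0
  (j, scal (inv8 (ec r j)) r)

/-- At most `k` rank one matrices. -/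
def peel : ℕ → Code → Bool
  | 0, A => (List.range 8).all fun l => A.getD l 0 == 0
  | k + 1, A => let p := pivot A; peel k (step1 A p.1 p.2)

theorem finrank_range_of_peel (hα : α ^ 3 = α + 1) :
    ∀ {k : ℕ} {A : Code}, peel k A = true → finrank K (LinearMap.range (act α A)) ≤ k := by
  intro k
  induction k with
  | zero =>
    intro A h
    have h0 : act α A = 0 := by
      rw [act, show dec α A = 0 from ?_, map_zero]
      ext i j
      simp only [peel, List.all_eq_true, List.mem_range, beq_iff_eq] at h
      rw [dec, Matrix.of_apply, h i.1 i.2, ent_zero]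
      rfl
    rw [h0, LinearMap.range_zero, finrank_bot]
  | succ k ih =>
    intro A h
    simp only [peel] at h
    generalize (pivot A).1 = j, (pivot A).2 = b at h
    let col : Fin 8 → K := fun i => ent α (A.getD i.1 0) j
    have hle : LinearMap.range (act α A) ≤
        Submodule.span K {col} ⊔ LinearMap.range (act α (step1 A j b)) := by
      rintro _ ⟨v, rfl⟩
      have e : act α A v = (∑ l : Fin 8, ent α b l.1 * v l) • col + act α (step1 A j b) v := by
        funext i
        have hs : (step1 A j b).getD i.1 0 = A.getD i.1 0 ^^^ scal (ec (A.getD i.1 0) j) b := by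
          unfold step1
          rw [List.getD_eq_getElem _ _ (by simp : i.1 < _), List.getElem_map, List.getElem_range]
        simp only [act, Matrix.toLinAlgEquiv'_apply, Matrix.mulVec, dotProduct, Pi.add_apply,
          Pi.smul_apply, smul_eq_mul, col, dec, Matrix.of_apply, hs]
        rw [Finset.sum_mul, ← Finset.sum_add_distrib]
        refine Finset.sum_congr rfl fun l _ => ?_
        rw [ent_xor, ent_scal hα _ _ l.2, sval_ec]
        linear_combination (-(ent α (A.getD i.1 0) j * ent α b l.1 * v l)) *
          (CharTwo.two_eq_zero (R := K))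
      rw [e]
      exact Submodule.add_mem_sup (Submodule.smul_mem _ _ (Submodule.mem_span_singleton_self _))
        ⟨v, rfl⟩
    refine (Submodule.finrank_mono hle).trans ((Submodule.finrank_add_le_finrank_add_finrank _ _).trans ?_)
    have h1 := finrank_span_le_card (R := K) ({col} : Set (Fin 8 → K))
    have h2 := ih h
    simp only [Set.toFinset_singleton, Finset.card_singleton] at h1
    omega

/-- Two codes differ at some entry. -/
def differ (A B : Code) : Bool :=
  (List.range 8).any fun i => (List.range 8).any fun j => ec (A.getD i 0 ^^^ B.getD i 0) j != 0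

/-- Rows below `2 ^ 24`. -/
def wf (A : Code) : Bool := A.length == 8 && A.all fun r => decide (r < 2 ^ 24)

theorem dec_ne_of_differ
    (hli : ∀ a b c : Bool, (if a then 1 else 0) + α * (if b then 1 else 0) +
      α ^ 2 * (if c then 1 else 0) = (0 : K) → a = false ∧ b = false ∧ c = false)
    {A B : Code} (h : differ A B = true) : dec α A ≠ dec α B := by
  simp only [differ, List.any_eq_true, List.mem_range, bne_iff_ne, ne_eq] at h
  obtain ⟨i, hi, j, hj, hne⟩ := h
  intro e
  apply hne
  have h0 : ent α (A.getD i 0 ^^^ B.getD i 0) j = 0 := by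
    have e1 := congrFun (congrFun e ⟨i, hi⟩) ⟨j, hj⟩
    simp only [dec, Matrix.of_apply] at e1
    rw [ent_xor, e1, CharTwo.add_self_eq_zero]
  obtain ⟨h1, h2, h3⟩ := hli _ _ _ h0
  simp only [ec, h1, h2, h3]
  decide

theorem eq_of_dec_eq
    (hli : ∀ a b c : Bool, (if a then 1 else 0) + α * (if b then 1 else 0) +
      α ^ 2 * (if c then 1 else 0) = (0 : K) → a = false ∧ b = false ∧ c = false)
    {A B : Code} (hA : wf A = true) (hB : wf B = true) (e : dec α A = dec α B) : A = B := by
  simp only [wf, Bool.and_eq_true, beq_iff_eq, List.all_eq_true, decide_eq_true_eq] at hA hB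
  refine List.ext_getElem (hA.1.trans hB.1.symm) fun i h1 h2 => ?_
  refine ent_inj hli (hA.2 _ (List.getElem_mem h1)) (hB.2 _ (List.getElem_mem h2)) fun j hj => ?_
  have e1 := congrFun (congrFun e ⟨i, hA.1 ▸ h1⟩) ⟨j, hj⟩
  simp only [dec, Matrix.of_apply] at e1
  rwa [List.getD_eq_getElem _ _ h1, List.getD_eq_getElem _ _ h2] at e1

end CfsgLib.D4Two
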