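import Cfsg.Agent.D4Two.Model
import Cfsg.Agent.D4Two.Sound
import Cfsg.Agent.D4Two.Data

/-!
# The finite computations
-/

set_option autoImplicit false
set_option maxRecDepth 4000

namespace CfsgLib.D4Two

/-- The letters: roots and scalars. -/
def letters (i : Fin 8) : List (Fin 24 × ℕ) :=
  (![[(14, 1)], [(9, 1)], [(18, 1), (13, 1), (12, 1)], [(18, 2), (13, 4), (12, 6)],
    [(18, 4), (13, 6), (12, 2)], [(5, 1), (10, 1), (11, 1)], [(5, 2), (10, 4), (11, 6)],
    [(5, 4), (10, 6), (11, 2)]] : Fin 8 → List (Fin 24 × ℕ)) i

/-- The code of a product of root elements. -/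
def rootsC (L : List (Fin 24 × ℕ)) : Code := prd (L.map fun p => xC p.1 p.2)

/-- The codes of the letters. -/
def genC : List Code := (List.finRange 8).map fun i => rootsC (letters i)

/-- The code of a word. -/
def wC (w : List (Fin 8)) : Code := prd (w.map fun i => genC.getD i.1 zero)

/-- The key of a code. -/
def key (A : Code) : ℕ := A.foldl (fun k r => k <<< 24 ||| r) 0

/-- Strictly increasing keys along an ordering. -/
def increasing (L : List Code) : List ℕ → Bool
  | a :: b :: t => decide (key (L.getD a []) < key (L.getD b [])) && increasing L (b :: t)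
  | _ => true

/-- Each member after the first comes from an earlier one by a rule. -/
def derived (f : Code → ℕ → Code) (root : Code) (D : List Code × List (ℕ × ℕ)) : Bool :=
  D.1.getD 0 [] == root && (List.range (D.1.length - 1)).all fun i =>
    decide ((D.2.getD (i + 1) (0, 0)).1 ≤ i) &&
      f (D.1.getD (D.2.getD (i + 1) (0, 0)).1 []) (D.2.getD (i + 1) (0, 0)).2 == D.1.getD (i + 1) []

/-- A subgroup given by all its codes. -/
def spanOk (gens : List Code) (D : List Code × List (ℕ × ℕ)) : Bool :=
  derived (fun A j => mul A (gens.getD j one)) one D &&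
    (D.1.all fun A => wf A && gens.all fun g => D.1.contains (mul A g)) &&
    decide ((D.1.map key).Nodup)

/-- The scalars other than zero and one. -/
def eigs : List ℕ := [2, 3, 4, 5, 6, 7]

/-- Six one-dimensional eigenspaces. -/
def sixOk (A : Code) : Bool :=
  eigs.all fun c =>
    let P := psum (scalM (inv8 c) A) 7
    peel 1 P && differ P zero && mul (add A (scalM c one)) P == zero

/-- An element of order seven. -/
def sevenOk (A : Code) : Bool :=
  pw A 7 == one && (A == one || psum A 7 == zero || sixOk A)

/-- An element of three-power order. -/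
def threeOk (A : Code) : Bool :=
  pw A 9 == one && (A == one ||
    (if pw A 3 == one then
      let P := psum A 3
      peel 2 P || (peel 4 P && peel 4 (add P one))
    else psum A 9 == zero))

/-- The flag levels. -/
def lev (i : ℕ) : ℕ := [0, 1, 2, 3, 6, 5, 4, 3].getD i 0

/-- Strictly above the diagonal for the flag. -/
def upperOk (A : Code) : Bool :=
  (List.range 8).all fun i => (List.range 8).all fun j =>
    decide (lev i < lev j) || ec (A.getD i 0 ^^^ one.getD i 0) j == 0

/-- The squares. -/
def sq8 (c : ℕ) : ℕ := [0, 1, 4, 5, 6, 7, 2, 3].getD c 0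

/-- The code of a positive orbit element. -/
def orbC (rs : Fin 24 × Fin 24 × Fin 24) (c : ℕ) : Code :=
  rootsC [(rs.1, c), (rs.2.1, sq8 c), (rs.2.2, sq8 (sq8 c))]

/-- The orders of the witnesses. -/
def witOrders : List (ℕ × List ℕ) :=
  [(2, [1]), (4, [2]), (6, [3, 2]), (8, [4]), (12, [6, 4]), (14, [7, 2])]

theorem checks_thirteen : spanOk [wC wThirteen] spanThirteen = true ∧ spanThirteen.1.length = 13 ∧
    spanThirteen.1.all (fun A => A == one || psum A 13 == zero) = true := by
  decide +kernel

theorem checks_seven : spanOk (gSeven.map wC) spanSeven = true ∧ spanSeven.1.length = 49 ∧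
    spanSeven.1.all sevenOk = true := by
  decide +kernel

theorem checks_three : spanOk (gThree.map wC) spanThree = true ∧ spanThree.1.length = 81 ∧
    spanThree.1.all threeOk = true := by
  decide +kernel

theorem checks_class :
    derived (fun A j => mul (mul (genC.getD j zero) A) (genC.getD j zero)) (wC wLong)
      (clsLong, clsFrom) = true ∧
    clsLong.length = 819 ∧ clsOrder.length = 819 ∧ (clsOrder.all fun i => decide (i < 819)) = true ∧
    increasing clsLong clsOrder = true ∧ clsLong.all wf = true ∧
    (genC.all fun g => mul g g == one) = true := by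
  decide +kernel

theorem checks_elements :
    wC wLong = xC 23 1 ∧ wC wShort = rootsC [(17, 1), (20, 1), (21, 1)] ∧
    pw (wC wTorus) 7 = one ∧ differ (wC wTorus) one = true ∧ psum (wC wTorus) 7 = zero ∧
    mul (wC wTorus) (wC wLong) = mul (wC wLong) (wC wTorus) ∧
    pw (wC wNine) 9 = one ∧ differ (pw (wC wNine) 3) one = true ∧
    peel 2 (psum (pw (wC wNine) 3) 3) = true ∧
    mul (wC wNine) (wC wLong) = mul (wC wLong) (wC wNine) ∧
    peel 4 (add one (mul [0, 0, 0, 9, 8, 4, 2, 0] (add (wC wShort) one))) = true := by
  decide +kernel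

theorem checks_upper :
    upperOk (xC 14 1) = true ∧ upperOk (xC 22 1) = true ∧ upperOk (xC 23 1) = true ∧
    (upperOk (xC 14 0) = true ∧ upperOk (xC 22 0) = true ∧ upperOk (xC 23 0) = true) ∧
    (List.range 8).all (fun c => upperOk (orbC (12, 18, 13) c) && upperOk (orbC (15, 19, 16) c) &&
      upperOk (orbC (17, 20, 21) c)) = true := by
  decide +kernel

theorem checks_witness :
    (List.range 6).all (fun i =>
      pw (wC (wWitness.getD i [])) (witOrders.getD i (0, [])).1 == one &&
      (witOrders.getD i (0, [])).2.all fun d => differ (pw (wC (wWitness.getD i [])) d) one) = true := by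
  decide +kernel

end CfsgLib.D4Two
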