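import Cfsg.Agent.D4Two.Main
import Mathlib.GroupTheory.SemidirectProduct

/-!
# Extensions of `³D₄(2)` by copies of its natural module with the same element orders
-/

set_option autoImplicit false
set_option linter.unusedSectionVars false

namespace CfsgLib.D4Two

open Cfsg.Lie Module

universe u

variable {K : Type u} [Field K] [Fintype K] [CharP K 2] (hK : Fintype.card K = 8) {α : K}
  (hα : α ^ 3 = α + 1)

/-- Every finite group has a model on a type in the lowest universe with the same orders. -/
theorem exists_type_model (G : Type u) [Group G] [Finite G] :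
    ∃ (H : Type) (_ : Group H) (_ : Fintype H), Fintype.card H = Nat.card G ∧
      Set.range (orderOf : H → ℕ) = Set.range (orderOf : G → ℕ) := by
  let e : Fin (Nat.card G) ≃ G := (Finite.equivFin G).symm
  letI inst : Group (Fin (Nat.card G)) := e.group
  let m : Fin (Nat.card G) →* G :=
    { toFun := e
      map_one' := e.apply_symm_apply 1
      map_mul' := fun a b => e.apply_symm_apply (e a * e b) }
  refine ⟨Fin (Nat.card G), inst, inferInstance, Fintype.card_fin _, Set.ext fun n => ?_⟩
  constructor
  · rintro ⟨g, rfl⟩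
    exact ⟨m g, orderOf_injective m e.injective g⟩
  · rintro ⟨g, rfl⟩
    refine ⟨e.symm g, ?_⟩
    rw [← orderOf_injective m e.injective (e.symm g)]
    exact congrArg orderOf (e.apply_symm_apply g)

/-- Copies of the natural module. -/
abbrev Copies (K : Type u) (k : ℕ) : Type u := Multiplicative (Fin k → Fin 8 → K)

/-- The action on the copies of the natural module. -/
noncomputable def copiesAct (k : ℕ) : ↥(twistedD4 K 2) →* MulAut (Copies K k) where
  toFun g :=
    { toFun := fun v => Multiplicative.ofAdd fun i => nat8 hK g (v.toAdd i)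
      invFun := fun v => Multiplicative.ofAdd fun i => nat8 hK g⁻¹ (v.toAdd i)
      left_inv := fun v => Multiplicative.toAdd.injective (funext fun i => by
        show nat8 hK g⁻¹ (nat8 hK g (v.toAdd i)) = _
        rw [← Module.End.mul_apply, ← map_mul, inv_mul_cancel, map_one]; rfl)
      right_inv := fun v => Multiplicative.toAdd.injective (funext fun i => by
        show nat8 hK g (nat8 hK g⁻¹ (v.toAdd i)) = _
        rw [← Module.End.mul_apply, ← map_mul, mul_inv_cancel, map_one]; rfl)
      map_mul' := fun v w => Multiplicative.toAdd.injective (funext fun i =>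
        (nat8 hK g).map_add (v.toAdd i) (w.toAdd i)) }
  map_one' := MulEquiv.ext fun v => Multiplicative.toAdd.injective (funext fun i => by
    show nat8 hK 1 (v.toAdd i) = _
    rw [map_one]; rfl)
  map_mul' g h := MulEquiv.ext fun v => Multiplicative.toAdd.injective (funext fun i => by
    show nat8 hK (g * h) (v.toAdd i) = _
    rw [map_mul]; rfl)

/-- The extension. -/
abbrev Ext (k : ℕ) : Type u := Copies K k ⋊[copiesAct hK k] ↥(twistedD4 K 2)

theorem ext_pow (k : ℕ) (e : Ext hK k) (n : ℕ) :
    (e ^ n).right = e.right ^ n ∧ ∀ i, (e ^ n).left.toAdd i =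
      (∑ j ∈ Finset.range n, nat8 hK e.right ^ j) (e.left.toAdd i) := by
  induction n with
  | zero => exact ⟨rfl, fun i => by simp⟩
  | succ n ih =>
    refine ⟨by rw [pow_succ', SemidirectProduct.mul_right, ih.1, pow_succ'], fun i => ?_⟩
    rw [pow_succ', SemidirectProduct.mul_left, geom_sum_succ, LinearMap.add_apply,
      Module.End.mul_apply, Module.End.one_apply, ← ih.2 i, add_comm]
    rfl

include hK hα

theorem exists_witness {n : ℕ} (hn : n ∈ [2, 4, 6, 8, 12, 14]) :
    ∃ g : ↥(twistedD4 K 2), orderOf g = n := by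
  have hidx : ∀ n ∈ [2, 4, 6, 8, 12, 14], ∃ i : Fin 6, (witOrders.getD i.1 (0, [])).1 = n := by
    decide
  have hdiv : ∀ i : Fin 6, 0 < (witOrders.getD i.1 (0, [])).1 ∧ ∀ p : Fin 15, p.1.Prime →
      p.1 ∣ (witOrders.getD i.1 (0, [])).1 →
      (witOrders.getD i.1 (0, [])).1 / p.1 ∈ (witOrders.getD i.1 (0, [])).2 ∧
        (witOrders.getD i.1 (0, [])).1 < 15 := by
    decide +kernel
  obtain ⟨i, rfl⟩ := hidx n hn
  have h := checks_witness
  simp only [List.all_eq_true, List.mem_range, Bool.and_eq_true, beq_iff_eq] at h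
  obtain ⟨h1, h2⟩ := h i.1 i.2
  have hpw : ∀ j, nat8 hK (wordEl hα (wWitness.getD i.1 []) ^ j) =
      act α (pw (wC (wWitness.getD i.1 [])) j) := fun j => by
    rw [map_pow, nat8_word hK hα, act_pw hα]
  refine ⟨wordEl hα (wWitness.getD i.1 []), orderOf_eq_of_pow_and_pow_div_prime (hdiv i).1
    (nat8_injective hK (by rw [hpw, h1, act_one, map_one])) fun p hp hpd e => ?_⟩
  have hlt : p < 15 := by
    have hb : ∀ i : Fin 6, (witOrders.getD i.1 (0, [])).1 < 15 := by decide
    exact (Nat.le_of_dvd (hdiv i).1 hpd).trans_lt (hb i)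
  refine act_ne hα (h2 _ ((hdiv i).2 ⟨p, hlt⟩ hp hpd).1) ?_
  rw [act_one, ← hpw, e, map_one]

theorem range_orderOf_ext (k : ℕ) :
    Set.range (orderOf : Ext hK k → ℕ) = Set.range (orderOf : ↥(twistedD4 K 2) → ℕ) := by
  have := finite_group hK
  apply subset_antisymm
  · rintro _ ⟨e, rfl⟩
    have hdvd : orderOf e.right ∣ orderOf e :=
      orderOf_map_dvd (SemidirectProduct.rightHom (φ := copiesAct hK k)) e
    have hright : (e ^ orderOf e.right).right = 1 := by
      rw [(ext_pow hK k e _).1, pow_orderOf_eq_one]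
    by_cases hS : e ^ orderOf e.right = 1
    · exact ⟨e.right, Nat.dvd_antisymm hdvd (orderOf_dvd_of_pow_eq_one hS)⟩
    have h2 : (e ^ orderOf e.right) ^ 2 = 1 := by
      refine SemidirectProduct.ext ?_ (by rw [(ext_pow hK k _ 2).1, hright, one_pow]; rfl)
      refine Multiplicative.toAdd.injective (funext fun i => ?_)
      rw [(ext_pow hK k _ 2).2 i, hright, map_one]
      simp [CharTwo.two_eq_zero]
    have hsmall : orderOf e.right ∈ [1, 2, 3, 4, 6, 7] := by
      rcases order_or_sum hK hα e.right with h | h
      · exact h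
      refine absurd (SemidirectProduct.ext ?_ hright) hS
      refine Multiplicative.toAdd.injective (funext fun i => ?_)
      rw [(ext_pow hK k e _).2 i, h]
      rfl
    have hd : orderOf e ∣ orderOf e.right * 2 :=
      orderOf_dvd_of_pow_eq_one (by rw [pow_mul, h2])
    have hord : orderOf e = orderOf e.right * 2 := by
      obtain ⟨c, hc⟩ := hdvd
      rw [hc, Nat.mul_dvd_mul_iff_left (orderOf_pos _)] at hd
      rcases (Nat.dvd_prime Nat.prime_two).1 hd with rfl | rfl
      · rw [mul_one] at hc
        exact absurd (hc ▸ pow_orderOf_eq_one e) hS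
      · exact hc
    rw [hord]
    have hlist : ∀ n ∈ [1, 2, 3, 4, 6, 7], n * 2 ∈ [2, 4, 6, 8, 12, 14] := by decide
    exact exists_witness hK hα (hlist _ hsmall)
  · rintro _ ⟨g, rfl⟩
    exact ⟨SemidirectProduct.inr g, orderOf_injective _ SemidirectProduct.inr_injective g⟩

/-- Arbitrarily large groups with the element orders of `³D₄(2)`. -/
theorem exists_isospectral (N : ℕ) :
    ∃ (H : Type) (_ : Group H) (_ : Fintype H), N < Fintype.card H ∧
      Set.range (orderOf : H → ℕ) = Set.range (orderOf : ↥(twistedD4 K 2) → ℕ) := by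
  have := finite_group hK
  have : Finite (Ext hK N) := Finite.of_equiv _ SemidirectProduct.equivProd.symm
  obtain ⟨H, inst, finst, hcard, hrange⟩ := exists_type_model (Ext hK N)
  refine ⟨H, inst, finst, ?_, hrange.trans (range_orderOf_ext hK hα N)⟩
  rw [hcard, SemidirectProduct.card, Nat.card_congr Multiplicative.toAdd,
    Nat.card_fun, Nat.card_fun, Nat.card_fin, Nat.card_fin, Nat.card_eq_fintype_card, hK,
    card_group hK]
  have h1 : N < 2 ^ N := Nat.lt_two_pow_self
  have h2 : 2 ^ N ≤ (8 ^ 8) ^ N := Nat.pow_le_pow_left (by norm_num) N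
  exact h1.trans_le (h2.trans (Nat.le_mul_of_pos_right _ (by norm_num)))

end CfsgLib.D4Two
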