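import Cfsg.Agent.D4Two.Group

/-!
# Fixed spaces of the elements of prime power order of `³D₄(2)`
-/

set_option autoImplicit false
set_option linter.unusedSectionVars false

namespace CfsgLib.D4Two

open Cfsg.Lie CfsgLib.Chevalley CfsgLib.GraphTwist CfsgLib.TrialityInvol Module

universe u

theorem conj_mem_of_card {G : Type*} [Group G] [Finite G] (T : Subgroup G) (p k : ℕ)
    [hp : Fact p.Prime] (hT : Nat.card T = p ^ k) (hG : ¬ p ^ (k + 1) ∣ Nat.card G) {g : G} {j : ℕ}
    (hg : g ^ p ^ j = 1) : ∃ x : G, x * g * x⁻¹ ∈ T := by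
  obtain ⟨P, hP⟩ := (IsPGroup.of_card hT).exists_le_sylow
  have hPT : (P : Subgroup G) = T := by
    obtain ⟨i, hi⟩ := IsPGroup.iff_card.1 P.isPGroup'
    refine (Subgroup.eq_of_le_of_card_ge hP ?_).symm
    rw [hT, hi]
    refine Nat.pow_le_pow_right hp.out.pos ?_
    by_contra hlt
    exact hG ((pow_dvd_pow p (by omega : k + 1 ≤ i)).trans
      (hi ▸ Subgroup.card_subgroup_dvd_card (P : Subgroup G)))
  have hz : IsPGroup p (Subgroup.zpowers g) := by
    obtain ⟨i, -, hi⟩ := (Nat.dvd_prime_pow hp.out).1 (orderOf_dvd_of_pow_eq_one hg)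
    exact IsPGroup.of_card (n := i) (by rw [Nat.card_zpowers, hi])
  obtain ⟨Q, hQ⟩ := hz.exists_le_sylow
  obtain ⟨x, hx⟩ := MulAction.exists_smul_eq G Q P
  refine ⟨x, hPT ▸ ?_⟩
  rw [← hx]
  exact ⟨g, hQ (Subgroup.mem_zpowers g), rfl⟩

variable {K : Type u} [Field K] [Fintype K] [CharP K 2]

section Conj

variable {G : Type*} [Group G] (M : G →* End K (Fin 8 → K))

/-- The sum of the first `m` powers. -/
def psumE (g : G) (m : ℕ) : End K (Fin 8 → K) := ∑ j ∈ Finset.range m, M g ^ j

theorem M_inv_left (x : G) (v : Fin 8 → K) : M x⁻¹ (M x v) = v := by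
  rw [← Module.End.mul_apply, ← map_mul, inv_mul_cancel, map_one]; rfl

theorem eigenspace_conj (x g : G) (c : K) :
    finrank K (End.eigenspace (M (x * g * x⁻¹)) c) = finrank K (End.eigenspace (M g) c) := by
  have key : ∀ x g : G, finrank K (End.eigenspace (M g) c) ≤
      finrank K (End.eigenspace (M (x * g * x⁻¹)) c) := by
    intro x g
    have hinj : Function.Injective (M x) := Function.LeftInverse.injective (M_inv_left M x)
    refine (Submodule.equivMapOfInjective _ hinj _).finrank_eq.trans_le (Submodule.finrank_mono ?_)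
    rintro _ ⟨v, hv, rfl⟩
    rw [SetLike.mem_coe, End.mem_eigenspace_iff] at hv
    rw [End.mem_eigenspace_iff, map_mul, map_mul, Module.End.mul_apply, Module.End.mul_apply,
      M_inv_left, hv, map_smul]
  refine le_antisymm ?_ (key x g)
  have := key x⁻¹ (x * g * x⁻¹)
  rwa [show x⁻¹ * (x * g * x⁻¹) * x⁻¹⁻¹ = g by group] at this

theorem fix_eq_eigenspace (f : End K (Fin 8 → K)) : Fix f = End.eigenspace f 1 := by
  ext v; rw [mem_Fix, End.mem_eigenspace_iff, one_smul]

theorem fix_conj (x g : G) : finrank K (Fix (M (x * g * x⁻¹))) = finrank K (Fix (M g)) := by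
  rw [fix_eq_eigenspace, fix_eq_eigenspace, eigenspace_conj]

theorem fix_conj_bot {x g : G} : Fix (M (x * g * x⁻¹)) = ⊥ ↔ Fix (M g) = ⊥ := by
  rw [← Submodule.finrank_eq_zero, fix_conj, Submodule.finrank_eq_zero]

theorem range_psum_conj (x g : G) (m : ℕ) :
    finrank K (LinearMap.range (psumE M (x * g * x⁻¹) m + 1)) =
      finrank K (LinearMap.range (psumE M g m + 1)) := by
  have e : psumE M (x * g * x⁻¹) m + 1 = M x * (psumE M g m + 1) * M x⁻¹ := by
    have h1 : M x * M x⁻¹ = 1 := by rw [← map_mul, mul_inv_cancel, map_one]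
    have hp : ∀ j : ℕ, M (x * g * x⁻¹) ^ j = M x * M g ^ j * M x⁻¹ := fun j => by
      rw [← map_pow, conj_pow, map_mul, map_mul, map_pow]
    simp only [psumE, hp, mul_add, add_mul, mul_one, h1, Finset.mul_sum, Finset.sum_mul]
  have hs : Function.Surjective (M x⁻¹) :=
    Function.RightInverse.surjective (g := M x) (M_inv_left M x)
  have hinj : Function.Injective (M x) := Function.LeftInverse.injective (M_inv_left M x)
  rw [e, Module.End.mul_eq_comp, Module.End.mul_eq_comp,
    LinearMap.range_comp_of_range_eq_top _ (LinearMap.range_eq_top.2 hs), LinearMap.range_comp]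
  exact (Submodule.equivMapOfInjective _ hinj _).finrank_eq.symm

end Conj

variable (hK : Fintype.card K = 8) {α : K} (hα : α ^ 3 = α + 1)

include hK in
theorem card_group : Nat.card ↥(twistedD4 K 2) = 211341312 := by
  rw [natCard_twistedD4 (q := 2) Nat.prime_two.isPrimePow (by rw [hK]; rfl)]
  norm_num

include hK in
theorem finite_group : Finite ↥(twistedD4 K 2) :=
  Nat.finite_of_card_ne_zero (by rw [card_group hK]; norm_num)

theorem derived_getD {f : Code → ℕ → Code} {root : Code} {D : List Code × List (ℕ × ℕ)}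
    (h : derived f root D = true) (P : Code → Prop) (h0 : P root)
    (hs : ∀ A j, P A → P (f A j)) : ∀ i < D.1.length, P (D.1.getD i []) := by
  simp only [derived, Bool.and_eq_true, beq_iff_eq, List.all_eq_true, List.mem_range,
    decide_eq_true_eq] at h
  intro i
  induction i using Nat.strong_induction_on with
  | _ i ih =>
    intro hi
    rcases Nat.eq_zero_or_pos i with rfl | hpos
    · rw [h.1]; exact h0
    · obtain ⟨i, rfl⟩ : ∃ k, i = k + 1 := ⟨i - 1, by omega⟩
      obtain ⟨h1, h2⟩ := h.2 i (by omega)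
      rw [← h2]
      exact hs _ _ (ih _ (by omega) (by omega))

include hK hα

theorem nat8_act_inj {A : Code} {g h : ↥(twistedD4 K 2)} (hg : nat8 hK g = act α A)
    (hh : nat8 hK h = act α A) : g = h :=
  nat8_injective hK (hg.trans hh.symm)

/-- The subgroup of a list of all its codes. -/
theorem span_spec (ws : List (List (Fin 8))) {D : List Code × List (ℕ × ℕ)}
    (h : spanOk (ws.map wC) D = true) :
    ∃ T : Subgroup ↥(twistedD4 K 2), Nat.card T = D.1.length ∧
      ∀ g ∈ T, ∃ A ∈ D.1, nat8 hK g = act α A := by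
  have := finite_group hK
  simp only [spanOk, Bool.and_eq_true, List.all_eq_true, decide_eq_true_eq, List.contains_iff_mem,
    List.mem_map] at h
  obtain ⟨⟨hder, hclo⟩, hnd⟩ := h
  let S : Set ↥(twistedD4 K 2) := {g | ∃ w ∈ ws, g = wordEl hα w}
  have hlen : ∀ i < D.1.length, ∃ g ∈ Subgroup.closure S,
      nat8 hK g = act α (D.1.getD i []) := by
    refine derived_getD hder (fun A => ∃ g ∈ Subgroup.closure S, nat8 hK g = act α A)
      ⟨1, one_mem _, by rw [map_one, act_one]⟩ fun A j ⟨g, hg, e⟩ => ?_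
    by_cases hj : j < ws.length
    · refine ⟨g * wordEl hα ws[j], mul_mem hg
        (Subgroup.subset_closure ⟨_, List.getElem_mem hj, rfl⟩), ?_⟩
      rw [map_mul, e, nat8_word hK hα, act_mul hα,
        List.getD_eq_getElem _ _ (by simpa using hj), List.getElem_map]
    · refine ⟨g, hg, ?_⟩
      rw [List.getD_eq_default _ _ (by simp; omega), act_mul hα, act_one, mul_one, e]
  have hone : one ∈ D.1 ∨ D.1.length = 0 := by
    rcases Nat.eq_zero_or_pos D.1.length with h0 | h0
    · exact Or.inr h0
    · left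
      simp only [derived, Bool.and_eq_true, beq_iff_eq] at hder
      rw [← hder.1, List.getD_eq_getElem _ _ h0]
      exact List.getElem_mem h0
  have hne : D.1.length ≠ 0 := by
    intro h0
    simp only [derived, Bool.and_eq_true, beq_iff_eq] at hder
    rw [List.getD_eq_default _ _ (by omega)] at hder
    exact absurd hder.1 (by decide)
  have hmem : ∀ g ∈ Subgroup.closure S, ∃ A ∈ D.1, nat8 hK g = act α A := by
    intro g hg
    rw [← Subgroup.mem_toSubmonoid, Subgroup.closure_toSubmonoid_of_finite] at hg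
    induction hg using Submonoid.closure_induction_right with
    | one => exact ⟨one, hone.resolve_right hne, by rw [map_one, act_one]⟩
    | mul_right a _ b hb ih =>
      obtain ⟨A, hA, e⟩ := ih
      obtain ⟨w, hw, rfl⟩ := hb
      refine ⟨mul A (wC w), (hclo A hA).2 _ ⟨w, hw, rfl⟩, ?_⟩
      rw [map_mul, e, nat8_word hK hα, act_mul hα]
  refine ⟨Subgroup.closure S, ?_, hmem⟩
  choose g hg he using hlen
  refine (Nat.card_eq_of_bijective (fun i : Fin D.1.length =>
    (⟨g i i.2, hg i i.2⟩ : ↥(Subgroup.closure S))) ⟨?_, ?_⟩).symm.trans (Nat.card_fin _)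
  · intro a b e
    have e1 := dec_of_act ((he a a.2).symm.trans
      ((congrArg (nat8 hK) (congrArg Subtype.val e)).trans (he b b.2)))
    rw [List.getD_eq_getElem _ _ a.2, List.getD_eq_getElem _ _ b.2] at e1
    have e2 := eq_of_dec_eq (hli hα) (hclo _ (List.getElem_mem a.2)).1
      (hclo _ (List.getElem_mem b.2)).1 e1
    exact Fin.ext ((List.Nodup.getElem_inj_iff hnd).1
      (by simp [List.getElem_map, e2] : (D.1.map key)[a.1]'(by rw [List.length_map]; exact a.2) = (D.1.map key)[b.1]'(by rw [List.length_map]; exact b.2)))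
  · rintro ⟨x, hx⟩
    obtain ⟨A, hA, e⟩ := hmem x hx
    obtain ⟨i, hi, rfl⟩ := List.getElem_of_mem hA
    refine ⟨⟨i, hi⟩, Subtype.ext (nat8_act_inj hK hα (he i hi) ?_)⟩
    rw [e, List.getD_eq_getElem _ _ hi]

theorem thirteen_fix {g : ↥(twistedD4 K 2)} (hg : g ^ 13 = 1) (hne : g ≠ 1) :
    Fix (nat8 hK g) = ⊥ := by
  have := finite_group hK
  have : Fact (Nat.Prime 13) := ⟨by norm_num⟩
  obtain ⟨h1, h2, h3⟩ := checks_thirteen
  obtain ⟨T, hT, hmem⟩ := span_spec hK hα [wThirteen] h1
  obtain ⟨x, hx⟩ := conj_mem_of_card T 13 1 (by rw [hT, h2]; rfl)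
    (by rw [card_group hK]; norm_num) (j := 1) (by simpa using hg)
  obtain ⟨A, hA, e⟩ := hmem _ hx
  simp only [List.all_eq_true, Bool.or_eq_true, beq_iff_eq] at h3
  rcases h3 A hA with rfl | h
  · exact absurd (conj_eq_one_iff.1 (nat8_injective hK (by rw [e, act_one, map_one]))) hne
  · rw [← fix_conj_bot (nat8 hK) (x := x), e]
    refine fix_eq_bot_of_sum_zero (m := 13) (by decide) ?_
    rw [← act_psum hα, h, act_zero]

/-- Six eigenspaces of dimension one. -/
def SixEig (α : K) (f : End K (Fin 8 → K)) : Prop :=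
  ∀ c ∈ eigs, finrank K (End.eigenspace f (sval α c)) = 1

theorem eig_data : ∀ c ∈ eigs, c < 8 ∧ inv8 c < 8 := by
  decide

theorem sval_inv {c : ℕ} (hc : c ∈ eigs) : sval α (inv8 c) * sval α c = 1 := by
  have h2 : (2 : K) = 0 := CharTwo.two_eq_zero
  fin_cases hc <;> simp [sval, inv8, bit, Nat.testBit_eq_decide_div_mod_eq] <;>
    first
      | linear_combination hα + α * h2
      | linear_combination hα + (α + α ^ 2) * h2
      | linear_combination (α + 1) * hα + (α + α ^ 2) * h2

theorem seven_fix {g : ↥(twistedD4 K 2)} {j : ℕ} (hg : g ^ 7 ^ j = 1) :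
    g ^ 7 = 1 ∧ (g = 1 ∨ Fix (nat8 hK g) = ⊥ ∨ SixEig α (nat8 hK g)) := by
  have := finite_group hK
  have : Fact (Nat.Prime 7) := ⟨by norm_num⟩
  obtain ⟨h1, h2, h3⟩ := checks_seven
  obtain ⟨T, hT, hmem⟩ := span_spec hK hα gSeven h1
  obtain ⟨x, hx⟩ := conj_mem_of_card T 7 2 (by rw [hT, h2]; rfl)
    (by rw [card_group hK]; norm_num) hg
  obtain ⟨A, hA, e⟩ := hmem _ hx
  simp only [List.all_eq_true] at h3
  have h := h3 A hA
  simp only [sevenOk, Bool.and_eq_true, Bool.or_eq_true, beq_iff_eq] at h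
  refine ⟨(conj_eq_one_iff (a := x)).1 (nat8_injective hK ?_), ?_⟩
  · rw [← conj_pow, map_pow, e, ← act_pw hα, h.1, act_one, map_one]
  rcases h.2 with (rfl | hp) | h6
  · exact Or.inl (conj_eq_one_iff.1 (nat8_injective hK (by rw [e, act_one, map_one])))
  · refine Or.inr (Or.inl ?_)
    rw [← fix_conj_bot (nat8 hK) (x := x), e]
    refine fix_eq_bot_of_sum_zero (m := 7) (by decide) ?_
    rw [← act_psum hα, hp, act_zero]
  · refine Or.inr (Or.inr fun c hc => ?_)
    rw [← eigenspace_conj (nat8 hK) x, e]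
    simp only [sixOk, List.all_eq_true, Bool.and_eq_true, beq_iff_eq] at h6
    obtain ⟨⟨hp1, hd⟩, hz⟩ := h6 c hc
    have hinv := sval_inv hK hα hc
    have hPv : ∀ v ∈ End.eigenspace (act α A) (sval α c),
        act α (psum (scalM (inv8 c) A) 7) v = v := by
      intro v hv
      rw [End.mem_eigenspace_iff] at hv
      rw [act_psum hα, act_scalM hα]
      exact sum_pow_apply_fixed (by rw [LinearMap.smul_apply, hv, smul_smul, hinv, one_smul])
        (by decide)
    refine le_antisymm ((Submodule.finrank_mono fun v hv => ?_).trans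
      (finrank_range_of_peel hα hp1)) (Submodule.one_le_finrank_iff.2 fun hb => ?_)
    · exact ⟨v, hPv v hv⟩
    · refine act_ne hα hd ?_
      rw [act_zero]
      refine LinearMap.ext fun v => ?_
      have hmem' : act α (psum (scalM (inv8 c) A) 7) v ∈ End.eigenspace (act α A) (sval α c) := by
        rw [End.mem_eigenspace_iff]
        have := congrArg (fun f => f v) (congrArg (act α) hz)
        simp only [act_mul hα, act_add, act_scalM hα, act_one, act_zero, Module.End.mul_apply,
          LinearMap.add_apply, LinearMap.smul_apply, Module.End.one_apply,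
          LinearMap.zero_apply] at this
        exact funext fun i => CharTwo.add_eq_zero.1 (congrFun this i)
      rw [hb, Submodule.mem_bot] at hmem'
      rw [hmem', LinearMap.zero_apply]

theorem three_fix {g : ↥(twistedD4 K 2)} {j : ℕ} (hg : g ^ 3 ^ j = 1) :
    g ^ 9 = 1 ∧ (g ^ 3 ≠ 1 → Fix (nat8 hK g) = ⊥) ∧
    (g ^ 3 = 1 → g ≠ 1 → finrank K (Fix (nat8 hK g)) ≤ 2 ∨
      (finrank K (Fix (nat8 hK g)) ≤ 4 ∧
        finrank K (LinearMap.range (psumE (nat8 hK) g 3 + 1)) ≤ 4)) := by
  have := finite_group hK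
  have : Fact (Nat.Prime 3) := ⟨by norm_num⟩
  obtain ⟨h1, h2, h3⟩ := checks_three
  obtain ⟨T, hT, hmem⟩ := span_spec hK hα gThree h1
  obtain ⟨x, hx⟩ := conj_mem_of_card T 3 4 (by rw [hT, h2]; rfl)
    (by rw [card_group hK]; norm_num) hg
  obtain ⟨A, hA, e⟩ := hmem _ hx
  simp only [List.all_eq_true] at h3
  have h := h3 A hA
  simp only [threeOk, Bool.and_eq_true, Bool.or_eq_true, beq_iff_eq] at h
  refine ⟨(conj_eq_one_iff (a := x)).1 (nat8_injective hK ?_), fun hne => ?_, fun h31 hne => ?_⟩
  · rw [← conj_pow, map_pow, e, ← act_pw hα, h.1, act_one, map_one]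
  · rcases h.2 with rfl | hh
    · refine absurd ?_ hne
      have h1' : x * g * x⁻¹ = 1 := nat8_injective hK (by rw [e, act_one, map_one])
      rw [conj_eq_one_iff.1 h1', one_pow]
    · split at hh
      · rename_i h3'
        refine absurd ((conj_eq_one_iff (a := x)).1 (nat8_injective hK ?_)) hne
        rw [← conj_pow, map_pow, e, ← act_pw hα, h3', act_one, map_one]
      · rw [← fix_conj_bot (nat8 hK) (x := x), e]
        refine fix_eq_bot_of_sum_zero (m := 9) (by decide) ?_
        rw [← act_psum hα, beq_iff_eq.1 hh, act_zero]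
  · have hc : act α (pw A 3) = 1 := by
      rw [act_pw hα, ← e, ← map_pow, conj_pow, h31, mul_one, mul_inv_cancel, map_one]
    rcases h.2 with rfl | hh
    · exact absurd (conj_eq_one_iff.1 (nat8_injective hK (by rw [e, act_one, map_one]))) hne
    · split at hh
      swap
      · refine Or.inl ?_
        rw [← fix_conj (nat8 hK) x, e, fix_eq_bot_of_sum_zero (m := 9) (by decide)
          (by rw [← act_psum hα, beq_iff_eq.1 hh, act_zero]), finrank_bot]
        norm_num
      simp only [Bool.or_eq_true, Bool.and_eq_true] at hh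
      have hle : Fix (act α A) ≤ LinearMap.range (act α (psum A 3)) := by
        rw [act_psum hα]; exact fix_le_range _ (by decide)
      rw [← fix_conj (nat8 hK) x, ← range_psum_conj (nat8 hK) x g 3, e]
      rcases hh with hh | ⟨hh, hh'⟩
      · exact Or.inl ((Submodule.finrank_mono hle).trans (finrank_range_of_peel hα hh))
      · refine Or.inr ⟨(Submodule.finrank_mono hle).trans (finrank_range_of_peel hα hh), ?_⟩
        have := finrank_range_of_peel (K := K) hα hh'
        rw [act_add, act_one, act_psum hα] at this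
        rw [show psumE (nat8 hK) (x * g * x⁻¹) 3 = ∑ j ∈ Finset.range 3, act α A ^ j by
          simp only [psumE, e]]
        exact this

end CfsgLib.D4Two
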