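import Cfsg.Agent.D4Two.Checks
import Cfsg.Agent.GraphTwist.FamilyD4
import Mathlib.GroupTheory.Sylow

/-!
# `³D₄(2)` acting on its natural module
-/

set_option autoImplicit false
set_option linter.unusedSectionVars false

namespace CfsgLib.D4Two

open Cfsg.Lie CfsgLib.Chevalley CfsgLib.GraphTwist CfsgLib.TrialityInvol Module

universe u

/-- The set-up: a field of eight elements with a chosen generator. -/
structure Field8 (K : Type u) [Field K] [Fintype K] where
  card : Fintype.card K = 8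
  α : K
  hα : α ^ 3 = α + 1
  char : CharP K 2

variable {K : Type u} [Field K] [Fintype K]

theorem exists_field8 (hK : Fintype.card K = 8) : Nonempty (Field8 K) := by
  have : CharP K 2 := by
    obtain ⟨p, hp⟩ := CharP.exists K
    obtain ⟨n, hp', hn⟩ := FiniteField.card K p
    have : p = 2 := by
      have h : p ∣ 2 ^ 3 := by
        rw [show (2 : ℕ) ^ 3 = 8 from rfl, ← hK, hn]; exact dvd_pow_self p n.ne_zero
      exact (Nat.prime_dvd_prime_iff_eq hp' Nat.prime_two).1 (hp'.dvd_of_dvd_pow h)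
    subst this; exact hp
  obtain ⟨α, hα⟩ := exists_alpha (K := K) (by rw [Nat.card_eq_fintype_card, hK])
  exact ⟨⟨hK, α, hα, this⟩⟩

variable [CharP K 2] {α : K}

theorem sv_eq (c : ℕ) : sv α c = sval α c := rfl

theorem sq_sv (hα : α ^ 3 = α + 1) {c : ℕ} (hc : c < 8) : sv α (sq8 c) = sv α c ^ 2 := by
  have h2 : (2 : K) = 0 := CharTwo.two_eq_zero
  interval_cases c <;>
    simp [sv, sq8, bit, Nat.testBit_eq_decide_div_mod_eq, CharTwo.add_sq] <;>
    first
      | linear_combination (-α) * hα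
      | linear_combination (-α) * hα + α ^ 2 * h2
      | linear_combination (-α) * hα - α ^ 2 * h2

theorem sq8_lt {c : ℕ} (hc : c < 8) : sq8 c < 8 := by
  interval_cases c <;> decide

theorem exists_sv (hK : Fintype.card K = 8) (hα : α ^ 3 = α + 1) (x : K) :
    ∃ c, c < 8 ∧ sv α c = x := by
  have hinj : Function.Injective fun c : Fin 8 => sv α c.1 := by
    intro a b h
    have e : ∀ c : Fin 8, sv α c.1 = ent α (put c.1 0) 0 := fun c => by
      rw [ent_put α c.2 (by norm_num) (by norm_num), if_pos rfl]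
    simp only [e] at h
    have := ent_inj (hli hα) (r := put a.1 0) (s := put b.1 0)
      ((by decide +kernel : ∀ a : Fin 8, put a.1 0 < 2 ^ 24) a)
      ((by decide +kernel : ∀ a : Fin 8, put a.1 0 < 2 ^ 24) b) (fun j hj => by
        by_cases h0 : j = 0
        · rw [h0]; exact h
        · rw [ent_put α a.2 (by norm_num) hj, ent_put α b.2 (by norm_num) hj, if_neg h0, if_neg h0])
    exact (by decide +kernel : ∀ a b : Fin 8, put a.1 0 = put b.1 0 → a = b) a b this
  obtain ⟨c, hc⟩ := ((Fintype.bijective_iff_injective_and_card _).2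
    ⟨hinj, by rw [Fintype.card_fin, hK]⟩).2 x
  exact ⟨c.1, c.2, hc⟩

theorem le_chevD4 (hK : Fintype.card K = 8) : twistedD4 K 2 ≤ chevD4.group K := by
  obtain ⟨Φ, e, -⟩ := twistedD4_eq_tG (q := 2) Nat.prime_two.isPrimePow (by rw [hK]; rfl)
  rw [e]; exact Φ.tG_le_group

/-- A root element of the Chevalley group. -/
def xEl (α : K) (p : Fin 24 × ℕ) : ↥(chevD4.group K) :=
  ⟨X setupD4.good.good (⟨p.1.1, p.1.2⟩ : Root chevD4) (sv α p.2), X_mem_group _ _ _⟩

theorem coe_xEl (α : K) (p : Fin 24 × ℕ) :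
    (((xEl α p : ↥(chevD4.group K)) : GL chevD4.Idx K) : Matrix chevD4.Idx chevD4.Idx K) =
      chevD4.x K p.1.1 (sv α p.2) := by
  exact (coe_X setupD4.good.good (⟨p.1.1, p.1.2⟩ : Root chevD4) (sv α p.2)).trans
    (x_eq_xR setupD4.good.good K (⟨p.1.1, p.1.2⟩ : Root chevD4) _).symm

theorem coe_rho_prod (hα : α ^ 3 = α + 1) :
    ∀ L : List (Fin 24 × ℕ), (∀ p ∈ L, p.2 < 8) →
      (rho ((L.map (xEl α)).prod) : Matrix (Fin 8) (Fin 8) K) = dec α (rootsC L) := by
  intro L
  induction L with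
  | nil => intro _; simp [rootsC, prd, dec_one]
  | cons p L ih =>
    intro h
    rw [List.map_cons, List.prod_cons, map_mul, Units.val_mul,
      ih fun q hq => h q (List.mem_cons_of_mem _ hq),
      rho_x p.1 (h p List.mem_cons_self) _ (coe_xEl α p)]
    simp [rootsC, prd, dec_mul hα]

theorem letters_lt : ∀ i : Fin 8, ∀ p ∈ letters i, p.2 < 8 := by
  decide +kernel

theorem letter_mem (hα : α ^ 3 = α + 1) (i : Fin 8) :
    ((((letters i).map (xEl α)).prod : ↥(chevD4.group K)) : GL chevD4.Idx K) ∈ twistedD4 K 2 := by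
  refine Subgroup.subset_closure ⟨(letters i).map fun p => (p.1.1, sv α p.2), ?_, ?_⟩
  · have e2 : ∀ c < 8, sv α c ^ 2 = sv α (sq8 c) := fun c hc => (sq_sv hα hc).symm
    have e4 : ∀ c < 8, sv α c ^ (2 ^ 2) = sv α (sq8 (sq8 c)) := fun c hc => by
      rw [pow_two 2, pow_mul, e2 c hc, e2 _ (sq8_lt hc)]
    have h1 : sv α 1 = 1 := by simp [sv, bit, Nat.testBit_eq_decide_div_mod_eq]
    fin_cases i
    · exact Or.inl ⟨1, one_pow _, d4p2, by simp, by simp [letters, h1, d4p2]⟩
    · exact Or.inl ⟨1, one_pow _, d4m2, by simp, by simp [letters, h1, d4m2]⟩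
    all_goals refine Or.inr ?_
    · exact ⟨sv α 1, (d4p1, d4p3, d4p4), by simp, by
        rw [e2 1 (by norm_num), e4 1 (by norm_num)]; rfl⟩
    · exact ⟨sv α 2, (d4p1, d4p3, d4p4), by simp, by
        rw [e2 2 (by norm_num), e4 2 (by norm_num)]; rfl⟩
    · exact ⟨sv α 4, (d4p1, d4p3, d4p4), by simp, by
        rw [e2 4 (by norm_num), e4 4 (by norm_num)]; rfl⟩
    · exact ⟨sv α 1, (d4m1, d4m3, d4m4), by simp, by
        rw [e2 1 (by norm_num), e4 1 (by norm_num)]; rfl⟩
    · exact ⟨sv α 2, (d4m1, d4m3, d4m4), by simp, by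
        rw [e2 2 (by norm_num), e4 2 (by norm_num)]; rfl⟩
    · exact ⟨sv α 4, (d4m1, d4m3, d4m4), by simp, by
        rw [e2 4 (by norm_num), e4 4 (by norm_num)]; rfl⟩
  · generalize letters i = L
    induction L with
    | nil => simp [ChevalleyDatum.wordMat]
    | cons p L ih =>
      rw [List.map_cons, List.prod_cons, Subgroup.coe_mul, Units.val_mul, ih, coe_xEl]
      simp [ChevalleyDatum.wordMat]

/-- The representation on the natural module. -/
noncomputable def nat8 (hK : Fintype.card K = 8) :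
    ↥(twistedD4 K 2) →* End K (Fin 8 → K) :=
  ((Matrix.toLinAlgEquiv' : Matrix (Fin 8) (Fin 8) K ≃ₐ[K] _).toMonoidHom.comp
    (Units.coeHom _)).comp (rho.comp (Subgroup.inclusion (le_chevD4 hK)))

theorem nat8_injective (hK : Fintype.card K = 8) : Function.Injective (nat8 (K := K) hK) := by
  intro a b h
  exact Subgroup.inclusion_injective _ (rho_injective (Units.ext
    ((Matrix.toLinAlgEquiv' : Matrix (Fin 8) (Fin 8) K ≃ₐ[K] _).injective h)))

/-- A letter. -/
def letterEl (hα : α ^ 3 = α + 1) (i : Fin 8) : ↥(twistedD4 K 2) := ⟨_, letter_mem hα i⟩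

/-- The element of a word. -/
def wordEl (hα : α ^ 3 = α + 1) (w : List (Fin 8)) : ↥(twistedD4 K 2) :=
  (w.map (letterEl hα)).prod

theorem nat8_roots (hK : Fintype.card K = 8) (hα : α ^ 3 = α + 1) (L : List (Fin 24 × ℕ))
    (hL : ∀ p ∈ L, p.2 < 8) (g : ↥(twistedD4 K 2))
    (hg : (g : GL chevD4.Idx K) = ((L.map (xEl α)).prod : ↥(chevD4.group K))) :
    nat8 hK g = act α (rootsC L) := by
  have e : Subgroup.inclusion (le_chevD4 hK) g = (L.map (xEl α)).prod := Subtype.ext hg
  simp only [nat8, MonoidHom.comp_apply, e]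
  exact congrArg _ (coe_rho_prod hα L hL)

theorem nat8_letter (hK : Fintype.card K = 8) (hα : α ^ 3 = α + 1) (i : Fin 8) :
    nat8 hK (letterEl hα i) = act α (genC.getD i.1 zero) := by
  rw [nat8_roots hK hα (letters i) (letters_lt i) _ rfl, genC,
    List.getD_eq_getElem _ _ (by simp), List.getElem_map, List.getElem_finRange]
  rfl

theorem nat8_word (hK : Fintype.card K = 8) (hα : α ^ 3 = α + 1) :
    ∀ w : List (Fin 8), nat8 hK (wordEl hα w) = act α (wC w)
  | [] => by simp [wordEl, wC, prd, act_one]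
  | i :: w => by
    rw [wordEl, List.map_cons, List.prod_cons, map_mul, nat8_letter hK hα i]
    rw [show nat8 hK (List.map (letterEl hα) w).prod = act α (wC w) from nat8_word hK hα w]
    simp [wC, prd, act_mul hα]

theorem dec_of_act {A B : Code} (h : act α A = act α B) : dec α A = dec α B :=
  (Matrix.toLinAlgEquiv' : Matrix (Fin 8) (Fin 8) K ≃ₐ[K] _).injective h

theorem act_ne (hα : α ^ 3 = α + 1) {A B : Code} (h : differ A B = true) : act α A ≠ act α B :=
  fun e => dec_ne_of_differ (hli hα) h (dec_of_act e)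

end CfsgLib.D4Two
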