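import Cfsg.Agent.D4Two.Facts

/-!
# Involutions of `³D₄(2)` and the centralizer of a long root element
-/

set_option autoImplicit false
set_option linter.unusedSectionVars false

namespace CfsgLib.D4Two

open Cfsg.Lie CfsgLib.Chevalley CfsgLib.GraphTwist CfsgLib.TrialityInvol Module

universe u

variable {K : Type u} [Field K] [Fintype K] [CharP K 2] (hK : Fintype.card K = 8) {α : K}
  (hα : α ^ 3 = α + 1)

/-- Strictly above the diagonal of the flag. -/
def Upper (M : Matrix (Fin 8) (Fin 8) K) : Prop :=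
  ∀ i j : Fin 8, lev j.1 ≤ lev i.1 → M i j = (1 : Matrix (Fin 8) (Fin 8) K) i j

theorem lev_inj_le : ∀ i j : Fin 8, lev i.1 < lev j.1 → i ≠ j := fun _ _ h e => by
  rw [e] at h; exact lt_irrefl _ h

theorem Upper.mul {M N : Matrix (Fin 8) (Fin 8) K} (hM : Upper M) (hN : Upper N) :
    Upper (M * N) := by
  intro i j hij
  rw [Matrix.mul_apply]
  by_cases h : i = j
  · subst h
    rw [Finset.sum_eq_single i]
    · rw [hM i i le_rfl, hN i i le_rfl, Matrix.one_apply_eq, mul_one]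
    · intro l _ hl
      rcases le_or_gt (lev l.1) (lev i.1) with h1 | h1
      · rw [hM i l h1, Matrix.one_apply_ne (Ne.symm hl), zero_mul]
      · rw [hN l i h1.le, Matrix.one_apply_ne hl, mul_zero]
    · simp
  · rw [Matrix.one_apply_ne h]
    refine Finset.sum_eq_zero fun l _ => ?_
    rcases le_or_gt (lev l.1) (lev i.1) with h1 | h1
    · rw [hM i l h1]
      rcases eq_or_ne i l with rfl | h2
      · rw [hN i j hij, Matrix.one_apply_ne h, mul_zero]
      · rw [Matrix.one_apply_ne h2, zero_mul]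
    · rw [hN l j (hij.trans h1.le), Matrix.one_apply_ne (lev_inj_le j l (hij.trans_lt h1)).symm,
        mul_zero]

theorem Upper.pow_apply {M : Matrix (Fin 8) (Fin 8) K} (hM : Upper M) :
    ∀ (k : ℕ) (i j : Fin 8), lev j.1 < lev i.1 + k → ((M + 1) ^ k) i j = 0 := by
  intro k
  induction k with
  | zero =>
    intro i j h
    rw [pow_zero, Matrix.one_apply_ne fun e => by rw [e] at h; omega]
  | succ k ih =>
    intro i j h
    rw [pow_succ, Matrix.mul_apply]
    refine Finset.sum_eq_zero fun l _ => ?_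
    rcases lt_or_ge (lev l.1) (lev i.1 + k) with h1 | h1
    · rw [ih i l h1, zero_mul]
    · rw [Matrix.add_apply, hM l j (by omega), CharTwo.add_self_eq_zero, mul_zero]

theorem lev_lt : ∀ j : Fin 8, lev j.1 < 7 := by decide

theorem upper_of_check {A : Code} (h : upperOk A = true) : Upper (dec α A) := by
  simp only [upperOk, List.all_eq_true, List.mem_range, Bool.or_eq_true, decide_eq_true_eq,
    beq_iff_eq] at h
  intro i j hij
  have h1 := (h i.1 i.2 j.1 j.2).resolve_left (by omega)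
  have h0 : ent α (A.getD i.1 0 ^^^ one.getD i.1 0) j.1 = 0 := by
    rw [← sval_ec, h1]; simp [sval, bit]
  rw [ent_xor, CharTwo.add_eq_zero] at h0
  rw [← dec_one (K := K) α]
  exact h0

include hK hα

/-- The long root element. -/
theorem exists_long : ∃ z : ↥(twistedD4 K 2),
    (z : GL chevD4.Idx K) = yf (1 : K) ∧ nat8 hK z = act α (wC wLong) := by
  obtain ⟨Φ, e, hf, -⟩ := twistedD4_eq_tG (q := 2) Nat.prime_two.isPrimePow (by rw [hK]; rfl)
  refine ⟨⟨yf 1, e ▸ Φ.U1_le_tG (yf_mem Φ (map_one _))⟩, rfl, ?_⟩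
  rw [checks_elements.1, nat8_roots hK hα [(23, 1)] (by decide) _ ?_]
  · simp [rootsC, prd, act_mul hα, act_one]
  · simp [xEl, yf, r, sv, bit, Nat.testBit_eq_decide_div_mod_eq]

/-- The short root element. -/
theorem exists_short : ∃ z : ↥(twistedD4 K 2),
    (∀ f : K ≃+* K, (z : GL chevD4.Idx K) = yd f (1 : K)) ∧
      nat8 hK z = act α (wC wShort) := by
  obtain ⟨Φ, e, hf, -⟩ := twistedD4_eq_tG (q := 2) Nat.prime_two.isPrimePow (by rw [hK]; rfl)
  refine ⟨⟨yd Φ.f 1, e ▸ Φ.U1_le_tG (yd_mem Φ 1)⟩, fun f => by simp [yd], ?_⟩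
  rw [checks_elements.2.1, nat8_roots hK hα [(17, 1), (20, 1), (21, 1)] (by decide) _ ?_]
  simp [xEl, yd, r, sv, bit, Nat.testBit_eq_decide_div_mod_eq]

theorem conj_U1 {g : ↥(twistedD4 K 2)} {k : ℕ} (hg : g ^ 2 ^ k = 1) :
    ∃ x : ↥(twistedD4 K 2), Upper (LinearMap.toMatrix' (nat8 hK (x * g * x⁻¹))) := by
  obtain ⟨Φ, e, hf, -⟩ := twistedD4_eq_tG (q := 2) Nat.prime_two.isPrimePow (by rw [hK]; rfl)
  obtain ⟨x, hx, hxU⟩ := Φ.exists_conj_mem_U1 setupD4_faithful 2 (k := k)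
    (g := (g : GL chevD4.Idx K)) (e ▸ g.2) (congrArg Subtype.val hg)
  refine ⟨⟨x, e ▸ hx⟩, ?_⟩
  obtain ⟨b, p, u, v, c, d, hb, hc, hd, hform⟩ := exists_form Φ hxU
  have h01 : ∀ y : K, Φ.f y = y → ∃ c, (c = 0 ∨ c = 1) ∧ sv α c = y := fun y hy => by
    rw [hf, sq] at hy
    rcases eq_or_ne y 0 with rfl | h
    · exact ⟨0, Or.inl rfl, by simp [sv, bit]⟩
    · exact ⟨1, Or.inr rfl, by
        simp [sv, bit, Nat.testBit_eq_decide_div_mod_eq, mul_eq_left₀ h |>.1 hy]⟩
  obtain ⟨b', hb', rfl⟩ := h01 b hb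
  obtain ⟨c', hc', rfl⟩ := h01 c hc
  obtain ⟨d', hd', rfl⟩ := h01 d hd
  obtain ⟨p', hp', rfl⟩ := exists_sv hK hα p
  obtain ⟨u', hu', rfl⟩ := exists_sv hK hα u
  obtain ⟨v', hv', rfl⟩ := exists_sv hK hα v
  let L : List (Fin 24 × ℕ) := [(14, b')] ++ ([(12, p'), (18, sq8 p'), (13, sq8 (sq8 p'))] ++
    ([(15, u'), (19, sq8 u'), (16, sq8 (sq8 u'))] ++
      ([(17, v'), (20, sq8 v'), (21, sq8 (sq8 v'))] ++ ([(22, c')] ++ [(23, d')]))))
  have hL : ∀ q ∈ L, q.2 < 8 := by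
    have h1 := sq8_lt hp'; have h2 := sq8_lt hu'; have h3 := sq8_lt hv'
    have h4 := sq8_lt h1; have h5 := sq8_lt h2; have h6 := sq8_lt h3
    simp only [L, List.cons_append, List.nil_append, List.mem_cons, List.not_mem_nil, or_false]
    rintro q (rfl | rfl | rfl | rfl | rfl | rfl | rfl | rfl | rfl | rfl | rfl | rfl) <;>
      simp only <;> omega
  rw [nat8_roots hK hα L hL _ ?_, act, show ∀ M : Matrix (Fin 8) (Fin 8) K,
    LinearMap.toMatrix' (Matrix.toLinAlgEquiv' M) = M from fun M => LinearMap.toMatrix'_toLin' M]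
  · have hchk := checks_upper
    simp only [List.all_eq_true, List.mem_range, Bool.and_eq_true] at hchk
    obtain ⟨q14, q22, q23, ⟨r14, r22, r23⟩, horb⟩ := hchk
    have hsing : ∀ k : Fin 24, upperOk (xC k 1) = true → upperOk (xC k 0) = true →
        ∀ t, (t = 0 ∨ t = 1) → Upper (dec α (xC k t)) := by
      rintro k k1 k0 t (rfl | rfl)
      exacts [upper_of_check k0, upper_of_check k1]
    have happ : ∀ A B : List (Fin 24 × ℕ),
        dec α (rootsC (A ++ B)) = dec α (rootsC A) * dec α (rootsC B) := fun A B => by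
      simp [rootsC, dec_prd hα, List.map_append, List.prod_append]
    have hone : ∀ k : Fin 24, ∀ t, dec α (rootsC [(k, t)]) = dec α (xC k t) := fun k t => by
      simp [rootsC, dec_prd hα]
    simp only [L, happ, hone]
    refine (hsing 14 q14 r14 b' hb').mul (Upper.mul (upper_of_check (horb p' hp').1.1)
      (Upper.mul (upper_of_check (horb u' hu').1.2) (Upper.mul (upper_of_check (horb v' hv').2)
        (Upper.mul (hsing 22 q22 r22 c' hc') (hsing 23 q23 r23 d' hd')))))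
  · show x * (g : GL chevD4.Idx K) * x⁻¹ = _
    rw [hform]
    simp only [L, List.cons_append, List.nil_append, List.map_cons, List.map_nil, List.prod_cons,
      List.prod_nil, mul_one, Subgroup.coe_mul, xEl, yb, ya, yc, yd, ye, yf, r, hf,
      sq_sv hα hp', sq_sv hα hu', sq_sv hα hv', sq_sv hα (sq8_lt hp'), sq_sv hα (sq8_lt hu'),
      sq_sv hα (sq8_lt hv'), mul_assoc]

theorem two_fix {g : ↥(twistedD4 K 2)} {k : ℕ} (hg : g ^ 2 ^ k = 1) :
    (nat8 hK g + 1) ^ 7 = 0 := by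
  obtain ⟨x, hx⟩ := conj_U1 hK hα hg
  have h1 : (LinearMap.toMatrix' (nat8 hK (x * g * x⁻¹)) + 1) ^ 7 = 0 := by
    ext i j
    exact hx.pow_apply 7 i j (lt_of_lt_of_le (lev_lt j) (by omega))
  have h2 : (nat8 hK (x * g * x⁻¹) + 1) ^ 7 = 0 := by
    apply (LinearMap.toMatrixAlgEquiv' : End K (Fin 8 → K) ≃ₐ[K] _).injective
    rw [map_pow, map_add, map_one, map_zero]
    exact h1
  have e : nat8 hK (x * g * x⁻¹) + 1 = nat8 hK x * (nat8 hK g + 1) * nat8 hK x⁻¹ := by
    rw [mul_add, add_mul, mul_one, ← map_mul, ← map_mul, ← map_mul, mul_inv_cancel, map_one]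
  have hi : nat8 hK x⁻¹ * nat8 hK x = 1 := by rw [← map_mul, inv_mul_cancel, map_one]
  have hi' : nat8 hK x * nat8 hK x⁻¹ = 1 := by rw [← map_mul, mul_inv_cancel, map_one]
  let X : (End K (Fin 8 → K))ˣ := ⟨nat8 hK x, nat8 hK x⁻¹, hi', hi⟩
  have e2 : ((X : End K (Fin 8 → K)) * (nat8 hK g + 1) * ((X⁻¹ : _ˣ) : End K (Fin 8 → K))) ^ 7 =
      0 := by
    rw [show (X : End K (Fin 8 → K)) * (nat8 hK g + 1) * ((X⁻¹ : _ˣ) : End K (Fin 8 → K)) =
      nat8 hK (x * g * x⁻¹) + 1 from e.symm]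
    exact h2
  rw [Units.conj_pow, Units.mul_left_eq_zero, Units.mul_right_eq_zero] at e2
  exact e2

/-- Every involution is conjugate to one of the two root elements. -/
theorem involution {g : ↥(twistedD4 K 2)} (hg : g ^ 2 = 1) (hne : g ≠ 1) {zl zs : ↥(twistedD4 K 2)}
    (hl : (zl : GL chevD4.Idx K) = yf (1 : K))
    (hs : ∀ f : K ≃+* K, (zs : GL chevD4.Idx K) = yd f (1 : K)) :
    ∃ x : ↥(twistedD4 K 2), x * g * x⁻¹ = zl ∨ x * g * x⁻¹ = zs := by
  obtain ⟨Φ, e, hf, -⟩ := twistedD4_eq_tG (q := 2) Nat.prime_two.isPrimePow (by rw [hK]; rfl)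
  have hg2 : (g : GL chevD4.Idx K) * g = 1 := by
    rw [← pow_two]; exact congrArg Subtype.val hg
  obtain ⟨x, hx, hxU⟩ := Φ.exists_conj_mem_U1 setupD4_faithful 2 (k := 1)
    (g := (g : GL chevD4.Idx K)) (e ▸ g.2) (by rw [pow_one]; exact congrArg Subtype.val hg)
  obtain ⟨h, hh, hr⟩ := ToRep.of_conj Φ hx (toRep_of_mem_U1 Φ hxU (conj_sq hg2)
    fun h => hne (Subtype.ext (conj_eq_one_iff.1 h)))
  refine ⟨⟨h, e ▸ hh⟩, ?_⟩
  rcases hr with hr | hr
  · exact Or.inl (Subtype.ext (hr.trans hl.symm))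
  · exact Or.inr (Subtype.ext (hr.trans (hs Φ.f).symm))

end CfsgLib.D4Two
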