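import Cfsg.Agent.D4Two.Centralizer
import Mathlib.LinearAlgebra.Eigenspace.Basic

/-!
# The orbit sums of the elements of `³D₄(2)` on the natural module
-/

set_option autoImplicit false
set_option linter.unusedSectionVars false

namespace CfsgLib.D4Two

open Cfsg.Lie CfsgLib.Chevalley CfsgLib.GraphTwist CfsgLib.TrialityInvol Module

universe u

variable {K : Type u} [Field K] [Fintype K] [CharP K 2] (hK : Fintype.card K = 8) {α : K}
  (hα : α ^ 3 = α + 1)

include hK in
theorem pow_one_cases {c : K} {q : ℕ} (hq : q = 2 ∨ q = 3) (hc : c ^ q = 1) : c = 1 := by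
  have hne : c ≠ 0 := by
    rintro rfl
    rw [zero_pow (by omega)] at hc
    exact zero_ne_one hc
  have h7 : c ^ 7 = 1 := by
    have := FiniteField.pow_card_sub_one_eq_one c hne
    rwa [hK] at this
  have h := pow_gcd_eq_one.2 ⟨hc, h7⟩
  rcases hq with rfl | rfl <;> norm_num at h <;> exact h

include hK hα in
theorem sval_injective : Function.Injective fun c : Fin 8 => sval α c.1 :=
  ((Fintype.bijective_iff_surjective_and_card _).2 ⟨fun x => by
    obtain ⟨c, hc, e⟩ := exists_sv hK hα x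
    exact ⟨⟨c, hc⟩, e⟩, by rw [Fintype.card_fin, hK]⟩).1

include hK hα in
/-- An element of order two or three commuting with six eigenlines fixes them. -/
theorem six_le_fix {f r : End K (Fin 8 → K)} (h6 : SixEig α f) (hc : Commute f r) {q : ℕ}
    (hq : q = 2 ∨ q = 3) (hr : r ^ q = 1) : 6 ≤ finrank K (Fix r) := by
  have hlt : ∀ i : Fin 6, i.1 + 2 < 8 := fun i => by omega
  have hmem : ∀ i : Fin 6, i.1 + 2 ∈ eigs := by decide
  have key : ∀ i : Fin 6, ∃ v, f.HasEigenvector (sval α (i.1 + 2)) v ∧ v ∈ Fix r := by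
    intro i
    obtain ⟨⟨v, hv⟩, hv0, hall⟩ := finrank_eq_one_iff'.1 (h6 _ (hmem i))
    have hne : v ≠ 0 := fun e => hv0 (Subtype.ext e)
    have hrv : r v ∈ End.eigenspace f (sval α (i.1 + 2)) := by
      rw [End.mem_eigenspace_iff] at hv ⊢
      rw [← Module.End.mul_apply, hc.eq, Module.End.mul_apply, hv, map_smul]
    obtain ⟨c, hc'⟩ := hall ⟨r v, hrv⟩
    have e : r v = c • v := (congrArg Subtype.val hc').symm
    have hpow : ∀ j : ℕ, (r ^ j) v = c ^ j • v := by
      intro j
      induction j with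
      | zero => simp
      | succ j ih => rw [pow_succ, Module.End.mul_apply, e, map_smul, ih, smul_smul, pow_succ']
    have h1 : c ^ q = 1 := smul_left_injective K hne (by
      show c ^ q • v = (1 : K) • v
      rw [← hpow, hr, one_smul, Module.End.one_apply])
    exact ⟨v, ⟨hv, hne⟩, mem_Fix.2 (by rw [e, pow_one_cases hK hq h1, one_smul])⟩
  choose v hv hfix using key
  have hli := End.eigenvectors_linearIndependent' f (fun i : Fin 6 => sval α (i.1 + 2))
    (fun i j h => by
      have := sval_injective hK hα (a₁ := ⟨_, hlt i⟩) (a₂ := ⟨_, hlt j⟩) h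
      simp only [Fin.mk.injEq] at this
      exact Fin.ext (by omega)) v hv
  have hli' : LinearIndependent K fun i => (⟨v i, hfix i⟩ : Fix r) :=
    LinearIndependent.of_comp (Fix r).subtype hli
  simpa using hli'.fintype_card_le_finrank

include hK in
theorem prime_dvd_cases {p : ℕ} (hp : p.Prime) {g : ↥(twistedD4 K 2)} (h : p ∣ orderOf g) :
    p = 2 ∨ p = 3 ∨ p = 7 ∨ p = 13 := by
  have := finite_group hK
  have h' := h.trans (orderOf_dvd_natCard g)
  rw [card_group hK, show 211341312 = 2 ^ 12 * 3 ^ 4 * 7 ^ 2 * 13 by norm_num] at h'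
  have hk : ∀ {q k : ℕ}, q.Prime → p ∣ q ^ k → p = q := fun hq hd =>
    (Nat.prime_dvd_prime_iff_eq hp hq).1 (hp.dvd_of_dvd_pow hd)
  rcases hp.dvd_mul.1 h' with h1 | h1
  · rcases hp.dvd_mul.1 h1 with h2 | h2
    · rcases hp.dvd_mul.1 h2 with h3 | h3
      · exact Or.inl (hk (by norm_num) h3)
      · exact Or.inr (Or.inl (hk (by norm_num) h3))
    · exact Or.inr (Or.inr (Or.inl (hk (by norm_num) h2)))
  · exact Or.inr (Or.inr (Or.inr ((Nat.prime_dvd_prime_iff_eq hp (by norm_num)).1 h1)))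

include hK hα

/-- An involution has a small fixed space, or its centralizer is that of a long root element. -/
theorem involution_cases {y z : ↥(twistedD4 K 2)} (hz2 : z ^ 2 = 1) (hz : z ≠ 1)
    (hyz : y * z = z * y) (hy : y ≠ 1) :
    finrank K (Fix (nat8 hK z)) ≤ 4 ∨
      ((y ^ 3 = 1 → finrank K (Fix (nat8 hK y)) ≤ 2) ∧ (y ^ 7 = 1 → Fix (nat8 hK y) = ⊥)) := by
  obtain ⟨zl, hl, hzl⟩ := exists_long hK hα
  obtain ⟨zs, hs, hzs⟩ := exists_short hK hα
  obtain ⟨x, hx | hx⟩ := involution hK hα hz2 hz hl hs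
  · right
    have hc : x * y * x⁻¹ * zl = zl * (x * y * x⁻¹) := by
      rw [← hx]
      calc x * y * x⁻¹ * (x * z * x⁻¹) = x * (y * z) * x⁻¹ := by group
        _ = x * (z * y) * x⁻¹ := by rw [hyz]
        _ = _ := by group
    obtain ⟨h3, h7⟩ := long_centralizer hK hα hl hzl hc fun e => hy (conj_eq_one_iff.1 e)
    refine ⟨fun h => ?_, fun h => ?_⟩
    · rw [← fix_conj (nat8 hK) x]
      exact h3 (by rw [conj_pow, h, mul_one, mul_inv_cancel])
    · rw [← fix_conj_bot (nat8 hK) (x := x)]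
      exact h7 (by rw [conj_pow, h, mul_one, mul_inv_cancel])
  · left
    rw [← fix_conj (nat8 hK) x, hx]
    exact short_fix hK hα hzs

/-- An element of order seven with a non-zero fixed vector commutes with no element of order two
or three. -/
theorem seven_alone {y r : ↥(twistedD4 K 2)} (hy : y ^ 7 = 1) (hy1 : y ≠ 1)
    (hfix : Fix (nat8 hK y) ≠ ⊥) {q : ℕ} (hq : q = 2 ∨ q = 3) (hr : r ^ q = 1) (hr1 : r ≠ 1)
    (hc : Commute y r) : False := by
  obtain ⟨-, h | h | h6⟩ := seven_fix hK hα (g := y) (j := 1) (by simpa using hy)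
  · exact hy1 h
  · exact hfix h
  have h1 : 6 ≤ finrank K (Fix (nat8 hK r)) :=
    six_le_fix hK hα h6 (hc.map (nat8 hK)) hq (by rw [← map_pow, hr, map_one])
  rcases hq with rfl | rfl
  · rcases involution_cases hK hα hr hr1 hc.eq hy1 with h | ⟨-, h⟩
    · omega
    · exact hfix (h hy)
  · obtain ⟨-, -, h⟩ := three_fix hK hα (g := r) (j := 1) (by simpa using hr)
    rcases h hr hr1 with h | ⟨h, -⟩ <;> omega

/-- The case of order `3 · 2^a`. -/
theorem three_two_pow {x : ↥(twistedD4 K 2)} {a : ℕ} (ha : 2 ≤ a) (hx : orderOf x = 2 ^ a * 3)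
    {v : Fin 8 → K} (hv : v ∈ Fix (nat8 hK x ^ 2 ^ a)) :
    ((nat8 hK x + 1) ^ (2 ^ a - 1) : End K (Fin 8 → K)) v = 0 := by
  set f := nat8 hK x with hf
  have hfn : f ^ (2 ^ a * 3) = 1 := by rw [hf, ← map_pow, ← hx, pow_orderOf_eq_one, map_one]
  let y := x ^ 2 ^ a
  have hy3 : y ^ 3 = 1 := by rw [← pow_mul, ← hx, pow_orderOf_eq_one]
  have hy1 : y ≠ 1 := pow_ne_one_of_lt_orderOf (by positivity)
    (by rw [hx]; have := Nat.one_le_two_pow (n := a); omega)
  have hfy : nat8 hK y = f ^ 2 ^ a := map_pow _ _ _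
  set B := Fix (f ^ 2 ^ a) with hB
  have hpos : 3 ≤ 2 ^ a - 1 := by
    have : 2 ^ 2 ≤ 2 ^ a := Nat.pow_le_pow_right (by norm_num) ha
    omega
  have hfc : Commute f (f ^ 2 ^ a) := (Commute.refl f).pow_right _
  have hBinv : ∀ w ∈ B, (f + 1) w ∈ B := by
    intro w hw
    rw [hB, mem_Fix] at hw ⊢
    rw [LinearMap.add_apply, map_add, Module.End.one_apply, hw, ← Module.End.mul_apply,
      ← hfc.eq, Module.End.mul_apply, hw]
  have hBnil : ∀ w ∈ B, ((f + 1) ^ 2 ^ a : End K (Fin 8 → K)) w = 0 := by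
    intro w hw
    rw [hB, mem_Fix] at hw
    rw [add_pow_char_pow_of_commute 2 a (Commute.one_right f), one_pow, LinearMap.add_apply,
      Module.End.one_apply, hw, ← two_smul K, CharTwo.two_eq_zero, zero_smul]
  by_cases hd : finrank K B ≤ 2
  · have h := sq_eq_zero_of_finrank_le_two hBinv hBnil hd v hv
    rw [show 2 ^ a - 1 = (2 ^ a - 3) + 2 by omega, pow_add, Module.End.mul_apply, h, map_zero]
  -- otherwise the involution has too large a fixed space
  exfalso
  obtain ⟨-, -, h3⟩ := three_fix hK hα (g := y) (j := 1) (by simpa using hy3)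
  rcases h3 hy3 hy1 with h | ⟨hB4, hW4⟩
  · exact hd (by rwa [hfy] at h)
  rw [hfy] at hB4
  rw [psumE, hfy] at hW4
  set P : End K (Fin 8 → K) := ∑ j ∈ Finset.range 3, (f ^ 2 ^ a) ^ j with hP
  set W := LinearMap.range (P + 1) with hW
  have hTP : f ^ 2 ^ a * P = P := mul_geom_of_pow_one _ (by rw [← pow_mul, hfn])
  have hPB : ∀ w, P w ∈ B := fun w => by
    rw [hB, mem_Fix, ← Module.End.mul_apply, hTP]
  have hPfix : ∀ w ∈ B, P w = w := fun w hw =>
    sum_pow_apply_fixed (mem_Fix.1 hw) (by decide)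
  have hcommP : Commute f (P + 1) :=
    (Commute.sum_right _ _ _ fun j _ => ((Commute.refl f).pow_right _).pow_right j).add_right
      (Commute.one_right f)
  have hWinv : ∀ i : ℕ, ∀ w ∈ W, (f ^ i) w ∈ W := by
    rintro i _ ⟨u, rfl⟩
    exact ⟨(f ^ i) u, LinearMap.congr_fun (hcommP.pow_left i).eq.symm u⟩
  have hWB : ∀ w ∈ W, w ∈ B → w = 0 := by
    rintro _ ⟨u, rfl⟩ hw
    rw [← hPfix _ hw]
    simp only [LinearMap.add_apply, Module.End.one_apply, map_add, hPfix _ (hPB u)]
    rw [← two_smul K, CharTwo.two_eq_zero, zero_smul]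
  have hdimW : 4 ≤ finrank K W := by
    have htop : B ⊔ W = ⊤ := eq_top_iff.2 fun w _ => by
      have e : w = P w + (P + 1) w := by
        rw [LinearMap.add_apply, ← add_assoc, ← two_smul K, CharTwo.two_eq_zero, zero_smul,
          zero_add, Module.End.one_apply]
      rw [e]
      exact Submodule.add_mem_sup (hPB w) ⟨w, rfl⟩
    have h := Submodule.finrank_sup_add_finrank_inf_eq B W
    rw [htop, finrank_top, Module.finrank_fin_fun,
      show B ⊓ W = ⊥ from (Submodule.eq_bot_iff _).2 fun w hw => hWB w hw.2 hw.1, finrank_bot] at h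
    rw [← hB] at hB4
    omega
  have hu2 : ∀ w ∈ W, (f ^ (3 * 2)) w = w := by
    intro w hw
    have h := sq_eq_zero_of_finrank_le_four (N := f ^ 3 + 1) (T := f ^ 2 ^ a)
      ((((Commute.refl f).pow_pow 3 (2 ^ a))).add_left (Commute.one_left _)) (W := W)
      (fun w hw => add_mem (hWinv 3 w hw) hw) (hWinv _) (k := 2 ^ a)
      (fun w _ => by
        rw [add_pow_char_pow_of_commute 2 a (Commute.one_right _), one_pow, ← pow_mul,
          Nat.mul_comm, hfn, CharTwo.add_self_eq_zero, LinearMap.zero_apply])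
      (fun w hw c hc => by
        refine hWB w hw ?_
        rw [hB, mem_Fix, hc]
        by_cases hw0 : w = 0
        · simp [hw0]
        have h1 : c ^ 3 = 1 := smul_left_injective K hw0 (by
          show c ^ 3 • w = (1 : K) • w
          have h := LinearMap.congr_fun hfn w
          rw [pow_mul, pow_succ, pow_succ, pow_succ, pow_zero, one_mul, Module.End.mul_apply,
            Module.End.mul_apply, hc, map_smul, hc, map_smul, map_smul, hc, Module.End.one_apply,
            smul_smul, smul_smul] at h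
          rw [one_smul, ← show c * c * c = c ^ 3 by ring, h])
        rw [pow_one_cases hK (Or.inr rfl) h1, one_smul])
      hW4 w hw
    rw [pow_two, add_mul, mul_add, one_mul, mul_one, ← pow_add, LinearMap.add_apply,
      LinearMap.add_apply, LinearMap.add_apply, Module.End.one_apply] at h
    have e : (f ^ 3) w + ((f ^ 3) w + w) = w := by
      rw [← add_assoc, ← two_smul K, CharTwo.two_eq_zero, zero_smul, zero_add]
    rw [add_assoc, e, ← eq_neg_iff_add_eq_zero] at h
    rw [show 3 * 2 = 3 + 3 from rfl, h, neg_eq_iff_add_eq_zero, ← two_smul K,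
      CharTwo.two_eq_zero, zero_smul]
  -- the involution
  let m := 3 * 2 ^ (a - 1)
  have hm : m * 2 = 2 ^ a * 3 := by
    rw [show m = 3 * 2 ^ (a - 1) from rfl, mul_assoc, ← pow_succ, Nat.sub_add_cancel (by omega),
      Nat.mul_comm]
  have hz2 : (x ^ m) ^ 2 = 1 := by rw [← pow_mul, hm, ← hx, pow_orderOf_eq_one]
  have hz1 : x ^ m ≠ 1 := pow_ne_one_of_lt_orderOf (by omega) (by rw [hx]; omega)
  rcases involution_cases hK hα hz2 hz1 ((Commute.refl x).pow_pow _ _).eq hy1 with h | ⟨h, -⟩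
  swap
  · exact hd (by rw [hB, ← hfy]; exact h hy3)
  rw [map_pow, ← hf] at h
  have hWz : W ≤ Fix (f ^ m) := fun w hw => mem_Fix.2 (by
    rw [show m = 3 * 2 * 2 ^ (a - 2) by
      rw [show m = 3 * 2 ^ (a - 1) from rfl, mul_assoc, ← pow_succ']
      congr 2
      omega, pow_mul]
    exact pow_apply_fixed (hu2 w hw) _)
  have hBne : B ≠ ⊥ := fun e => hd (by rw [e, finrank_bot]; norm_num)
  obtain ⟨w, hwB, hw0, hwN⟩ := exists_killed _ hBinv hBnil hBne
  have hwz : w ∈ Fix (f ^ m) := fix_le_fix_pow f m (mem_Fix.2 (by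
    rw [LinearMap.add_apply, Module.End.one_apply, ← eq_neg_iff_add_eq_zero] at hwN
    rw [hwN, neg_eq_iff_add_eq_zero, ← two_smul K, CharTwo.two_eq_zero, zero_smul]))
  have hlt : W < Fix (f ^ m) := lt_of_le_of_ne hWz fun e => hw0 (hWB w (e ▸ hwz) hwB)
  have := Submodule.finrank_lt_finrank_of_lt hlt
  omega

/-- Every element has small order or a vanishing orbit sum. -/
theorem order_or_sum (x : ↥(twistedD4 K 2)) :
    orderOf x ∈ [1, 2, 3, 4, 6, 7] ∨
      ∑ i ∈ Finset.range (orderOf x), nat8 hK x ^ i = 0 := by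
  have := finite_group hK
  obtain ⟨a, m, hm2, hn⟩ := Nat.exists_eq_pow_mul_and_not_dvd (orderOf_pos x).ne' 2 (by norm_num)
  set f := nat8 hK x with hf
  have hfn : f ^ (2 ^ a * m) = 1 := by rw [hf, ← map_pow, ← hn, pow_orderOf_eq_one, map_one]
  rw [hn]
  by_cases hB : Fix (f ^ 2 ^ a) = ⊥
  · exact Or.inr (sum_eq_zero_of f hfn fun v hv => by
      rw [hB, Submodule.mem_bot] at hv; rw [hv, map_zero])
  have key : ∀ d : ℕ, d ∣ m → Fix (nat8 hK (x ^ (2 ^ a * (m / d)))) ≠ ⊥ := by
    intro d _ e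
    rw [map_pow, pow_mul, ← hf] at e
    exact hB (le_bot_iff.1 (e ▸ fix_le_fix_pow _ _))
  have hord : ∀ d : ℕ, d ∣ m → orderOf (x ^ (2 ^ a * (m / d))) = d := by
    intro d hd
    have hm0 : 0 < m := Nat.pos_of_ne_zero fun e => hm2 (by simp [e])
    obtain ⟨e, rfl⟩ := hd
    have hd0 : 0 < d := Nat.pos_of_ne_zero fun e => by simp [e] at hm0
    have he0 : 0 < e := Nat.pos_of_ne_zero fun e => by simp [e] at hm0
    rw [Nat.mul_div_cancel_left _ hd0, orderOf_pow' _ (by positivity), hn,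
      Nat.gcd_eq_right ⟨d, by ring⟩]
    exact Nat.div_eq_of_eq_mul_left (by positivity) (by ring)
  have hp37 : ∀ p : ℕ, p.Prime → p ∣ m → p = 3 ∨ p = 7 := by
    intro p hp hpm
    rcases prime_dvd_cases hK hp (g := x) (hn ▸ hpm.mul_left _) with rfl | rfl | rfl | rfl
    · exact absurd hpm hm2
    · exact Or.inl rfl
    · exact Or.inr rfl
    · exfalso
      refine key 13 hpm (thirteen_fix hK hα ?_ ?_)
      · have h := pow_orderOf_eq_one (x ^ (2 ^ a * (m / 13))); rwa [hord 13 hpm] at h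
      · intro e; have := hord 13 hpm; rw [e, orderOf_one] at this; omega
  by_cases h7 : 7 ∣ m
  · left
    have hy : orderOf (x ^ (2 ^ a * (m / 7))) = 7 := hord 7 h7
    have hy1 : x ^ (2 ^ a * (m / 7)) ≠ 1 := fun e => by rw [e, orderOf_one] at hy; omega
    have hy7 : (x ^ (2 ^ a * (m / 7))) ^ 7 = 1 := by
      have h := pow_orderOf_eq_one (x ^ (2 ^ a * (m / 7))); rwa [hy] at h
    by_cases hn7 : 2 ^ a * m = 7
    · rw [hn7]; decide
    exfalso
    have h49 : ¬ 7 * 7 ∣ m := fun h49 => by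
      have ho := hord _ h49
      obtain ⟨e, -⟩ := seven_fix hK hα (g := x ^ (2 ^ a * (m / (7 * 7)))) (j := 2)
        (by conv_lhs => rw [show (7 : ℕ) ^ 2 = orderOf (x ^ (2 ^ a * (m / (7 * 7)))) from
              ho.symm, pow_orderOf_eq_one])
      have := orderOf_dvd_of_pow_eq_one e
      rw [ho] at this
      norm_num at this
    have hq : ∃ q : ℕ, (q = 2 ∨ q = 3) ∧ q ∣ 2 ^ a * m := by
      rcases Nat.eq_zero_or_pos a with rfl | ha
      · obtain ⟨e, rfl⟩ := h7
        obtain ⟨p, hp, hpe⟩ := Nat.exists_prime_and_dvd (n := e) fun h => hn7 (by simp [h])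
        rcases hp37 p hp (hpe.mul_left 7) with rfl | rfl
        · exact ⟨3, Or.inr rfl, (hpe.mul_left 7).mul_left _⟩
        · exact absurd (Nat.mul_dvd_mul_left 7 hpe) h49
      · exact ⟨2, Or.inl rfl, (dvd_pow_self 2 ha.ne').mul_right m⟩
    obtain ⟨q, hq, hqn⟩ := hq
    obtain ⟨e, he⟩ := hqn
    have he0 : 0 < e := Nat.pos_of_ne_zero fun h => by
      rw [h, mul_zero] at he
      exact (orderOf_pos x).ne' (hn.trans he)
    refine seven_alone hK hα hy7 hy1 (key 7 h7) hq (r := x ^ e) ?_ ?_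
      ((Commute.refl x).pow_pow _ _)
    · rw [← pow_mul, Nat.mul_comm, ← he, ← hn, pow_orderOf_eq_one]
    · exact pow_ne_one_of_lt_orderOf he0.ne' (by
        rw [hn, he]; rcases hq with rfl | rfl <;> omega)
  -- now `m` is a power of three
  have h9 : ¬ 3 * 3 ∣ m := fun h9 => by
    have ho := hord _ h9
    set y := x ^ (2 ^ a * (m / (3 * 3)))
    obtain ⟨-, e, -⟩ := three_fix hK hα (g := y) (j := 2)
      (by rw [show (3 : ℕ) ^ 2 = orderOf y from ho.symm, pow_orderOf_eq_one])
    exact key _ h9 (e (pow_ne_one_of_lt_orderOf (by norm_num) (by rw [ho]; norm_num)))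
  have hm13 : m = 1 ∨ m = 3 := by
    by_contra hcon
    push Not at hcon
    obtain ⟨p, hp, hpm⟩ := Nat.exists_prime_and_dvd hcon.1
    rcases hp37 p hp hpm with rfl | rfl
    · obtain ⟨e, rfl⟩ := hpm
      obtain ⟨p, hp, hpe⟩ := Nat.exists_prime_and_dvd (n := e) fun h => hcon.2 (by simp [h])
      rcases hp37 p hp (hpe.mul_left 3) with rfl | rfl
      · exact h9 (Nat.mul_dvd_mul_left 3 hpe)
      · exact h7 (hpe.mul_left 3)
    · exact h7 hpm
  rcases hm13 with rfl | rfl
  · by_cases ha : a ≤ 2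
    · left; interval_cases a <;> simp
    · right
      rw [mul_one, sum_range_two_pow]
      have h2 := two_fix hK hα (g := x) (k := a) (by rw [← mul_one (2 ^ a), ← hn, pow_orderOf_eq_one])
      have : 2 ^ 3 ≤ 2 ^ a := Nat.pow_le_pow_right (by norm_num) (by omega)
      exact pow_eq_zero_of_le (by omega) h2
  · by_cases ha : a ≤ 1
    · left; interval_cases a <;> simp
    · exact Or.inr (sum_eq_zero_of f hfn fun v hv => three_two_pow hK hα (by omega) hn hv)

end CfsgLib.D4Two
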