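import Cfsg.Agent.D4Two.Calc
import Cfsg.Agent.Forms.TrialityD4
import Cfsg.Agent.TrialityInvol.Classes
import Cfsg.Agent.GraphTwist.OrderD4

/-!
# The natural representation of `³D₄(2)` over the field with eight elements
-/

set_option autoImplicit false
set_option linter.unusedSectionVars false

namespace CfsgLib.D4Two

open Cfsg.Lie CfsgLib.Chevalley CfsgLib.ChevClassical Matrix

/-- The coordinates. -/
def e8 : Fin 8 ≃ Fin 4 ⊕ Fin 4 := (finSumFinEquiv (m := 4) (n := 4)).symm

variable {K : Type*} [Field K] [CharP K 2]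


theorem exists_alpha (hK : Nat.card K = 8) : ∃ α : K, α ^ 3 = α + 1 := by
  have : Finite K := Nat.finite_of_card_ne_zero (by omega)
  cases nonempty_fintype K
  have hc : Fintype.card K = 8 := by rw [← Nat.card_eq_fintype_card, hK]
  classical
  obtain ⟨x, -, hx⟩ := Finset.exists_mem_notMem_of_card_lt_card (s := ({0, 1} : Finset K))
    (t := Finset.univ) (lt_of_le_of_lt Finset.card_le_two (by rw [Finset.card_univ, hc]; norm_num))
  simp only [Finset.mem_insert, Finset.mem_singleton, not_or] at hx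
  obtain ⟨h0, h1⟩ := hx
  have h7 : x ^ 7 = 1 := by
    have := FiniteField.pow_card_sub_one_eq_one x h0
    rwa [hc] at this
  have h2 : (2 : K) = 0 := CharTwo.two_eq_zero
  have key : (x + 1) * ((x ^ 3 + x + 1) * (x ^ 3 + x ^ 2 + 1)) = 0 := by
    linear_combination h7 + (x ^ 6 + x ^ 5 + 2 * x ^ 4 + 2 * x ^ 3 + x ^ 2 + x + 1) * h2
  rcases mul_eq_zero.1 key with h | h
  · exact absurd (show x = 1 by linear_combination h - h2) h1
  rcases mul_eq_zero.1 h with h | h
  · exact ⟨x, by linear_combination h - (x + 1) * h2⟩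
  · refine ⟨x⁻¹, ?_⟩
    field_simp
    linear_combination -h + h2

theorem hli {α : K} (hα : α ^ 3 = α + 1) : ∀ a b c : Bool,
    (if a then 1 else 0) + α * (if b then 1 else 0) + α ^ 2 * (if c then 1 else 0) = (0 : K) →
      a = false ∧ b = false ∧ c = false := by
  have h2 : (2 : K) = 0 := CharTwo.two_eq_zero
  have n0 : α ≠ 0 := fun h => one_ne_zero (α := K) (by rw [h] at hα; linear_combination -hα)
  have n1 : α ≠ 1 := fun h => one_ne_zero (α := K) (by rw [h] at hα; linear_combination -hα)
  intro a b c h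
  cases a <;> cases b <;> cases c <;> simp at h ⊢
  · exact n0 h
  · exact n0 h
  · exact n1 (mul_left_cancel₀ n0 (by linear_combination h - α * h2))
  · exact n1 (sub_eq_zero.1 (pow_eq_zero_iff (n := 2) (by norm_num) |>.1
      (show (α - 1) ^ 2 = 0 by linear_combination h - α * h2)))
  · exact n1 (by linear_combination h - h2)
  · exact n0 (by linear_combination (α - 1) * h - hα)

/-! ### Root elements -/

/-- The scalar of a code. -/
def sv (α : K) (c : ℕ) : K := bit c 0 + α * bit c 1 + α ^ 2 * bit c 2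

/-- A scalar at a column. -/
def put (c j : ℕ) : ℕ :=
  (if c.testBit 0 then 1 <<< j else 0) ^^^ (if c.testBit 1 then 1 <<< (8 + j) else 0) ^^^
    (if c.testBit 2 then 1 <<< (16 + j) else 0)

theorem put_bits : ∀ c < 8, ∀ p < 8, ∀ j < 8,
    (put c p).testBit j = (decide (j = p) && c.testBit 0) ∧
    (put c p).testBit (8 + j) = (decide (j = p) && c.testBit 1) ∧
    (put c p).testBit (16 + j) = (decide (j = p) && c.testBit 2) := by
  decide +kernel

theorem ent_put (α : K) {c p j : ℕ} (hc : c < 8) (hp : p < 8) (hj : j < 8) :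
    ent α (put c p) j = if j = p then sv α c else 0 := by
  obtain ⟨h0, h1, h2⟩ := put_bits c hc p hp j hj
  simp only [ent, sv, bit, h0, h1, h2]
  by_cases e : j = p <;> simp [e]

/-- The two coordinates of a root. -/
def ends (r : Fin 24) : Fin 8 × Fin 8 :=
  (e8.symm (modelD4.root r).1, e8.symm (modelD4.root r).2.1)

/-- The partner of a coordinate. -/
def opp (i : Fin 8) : Fin 8 := e8.symm (frameD4.mate (e8 i))

/-- The code of a root element. -/
def xC (r : Fin 24) (c : ℕ) : Code :=
  (List.finRange 8).map fun i => put 1 i.1 ^^^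
    (if i = (ends r).2 then put c (opp (ends r).1).1 else 0) ^^^
    (if i = (ends r).1 then put c (opp (ends r).2).1 else 0)

theorem mate_ne (p : Fin 4 ⊕ Fin 4) : frameD4.mate p ≠ p := by
  revert p; decide

theorem coef_eq (r : Fin chevD4.nroots) : (((modelD4.root r).2.2 : ℤ) : K) = 1 := by
  rcases (show ∀ r : Fin chevD4.nroots, (modelD4.root r).2.2 = 1 ∨ (modelD4.root r).2.2 = -1 by
    decide +kernel) r with h | h <;> simp [h, CharTwo.neg_eq]

theorem eichFun_entry {α : K} {c : ℕ} (hc : c < 8) (a b : Fin 4 ⊕ Fin 4) (i j : Fin 8) :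
    frameD4.eichFun a (sv α c • dlt b) (dlt (e8 j)) (e8 i) =
      ent α (put 1 i.1 ^^^ (if i = e8.symm b then put c (opp (e8.symm a)).1 else 0) ^^^
        (if i = e8.symm a then put c (opp (e8.symm b)).1 else 0)) j.1 := by
  have hQ : frameD4.Q K (sv α c • dlt b) = 0 := by
    rw [frameD4.Q_smul, frameD4.Q_dlt (mate_ne b), mul_zero]
  simp only [Frame.eichFun, hQ, frameD4.B_smul_left, frameD4.B_dlt (mate_ne _), zero_mul, add_zero,
    Pi.add_apply, Pi.sub_apply, Pi.smul_apply, smul_eq_mul, dlt, Pi.single_apply]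
  have h1 : sv α 1 = 1 := by simp [sv, bit, Nat.testBit_eq_decide_div_mod_eq]
  rw [ent_xor, ent_xor, ent_put α (by norm_num) i.2 j.2, h1]
  have ej : ∀ p : Fin 4 ⊕ Fin 4, ent α (put c (opp (e8.symm p)).1) j.1 =
      if frameD4.mate p = e8 j then sv α c else 0 := by
    intro p
    rw [ent_put α hc (Fin.is_lt _) j.2]
    refine if_congr ?_ rfl rfl
    rw [opp, Equiv.apply_symm_apply, ← Fin.ext_iff, Equiv.eq_symm_apply]
    exact eq_comm
  simp only [apply_ite (fun x => ent α x j.1), ent_zero, ej, Equiv.eq_symm_apply, Fin.val_inj,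
    sub_eq_add_neg, CharTwo.neg_eq]
  simp only [eq_comm (a := j) (b := i), e8.injective.eq_iff]
  by_cases ha : e8 i = a <;> by_cases hb : e8 i = b <;> by_cases hij : i = j <;>
    by_cases h3 : frameD4.mate a = e8 j <;> by_cases h4 : frameD4.mate b = e8 j <;>
    simp [ha, hb, hij, h3, h4]

theorem dec_xC {α : K} (r : Fin 24) {c : ℕ} (hc : c < 8) :
    dec α (xC r c) = ((rootO (F := K) modelD4_ok (⟨r.1, r.2⟩ : Fin chevD4.nroots) (sv α c) :
      GL (Fin 4 ⊕ Fin 4) K) : Matrix (Fin 4 ⊕ Fin 4) (Fin 4 ⊕ Fin 4) K).submatrix e8 e8 := by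
  ext i j
  rw [Matrix.submatrix_apply, ← app_dlt, rootO, app_eichO, coef_eq, one_mul,
    eichFun_entry hc]
  simp only [dec, Matrix.of_apply, xC, ends]
  rw [List.getD_eq_getElem _ _ (by simp), List.getElem_map, List.getElem_finRange]
  rfl

/-! ### The representation -/

theorem adjGL_injective : Function.Injective (adjGL (F := K) modelD4_ok) := by
  refine (injective_iff_map_eq_one _).2 fun g hg => ?_
  have h1 : adjMat modelD4 (g : frameD4.O K) = 1 := by
    rw [← adjGL_val modelD4_ok g, hg]; rfl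
  obtain ⟨c, hc, hs⟩ := scalar_of_adjMat_eq_one modelD4_ok h1
  have hc1 : c = 1 := by
    rcases mul_self_eq_one_iff.1 hc with h | h <;> simp [h, CharTwo.neg_eq]
  refine Subtype.ext (Subtype.ext (Units.ext ?_))
  ext p q
  rw [← app_dlt, hs q, hc1, one_smul]
  simp [dlt, Pi.single_apply, Matrix.one_apply]

/-- The root subgroup of the frame is the Chevalley group. -/
noncomputable def eqv : ↥(rootSub frameD4 K) ≃* ↥(chevD4.group K) :=
  (MonoidHom.ofInjective (adjGL_injective (K := K))).trans
    (MulEquiv.subgroupCongr (adjGL_range (F := K) modelD4_ok))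

theorem eqv_rootO (r : Fin chevD4.nroots) (t : K) :
    ((eqv ⟨rootO modelD4_ok r t, rootO_mem modelD4_ok r t⟩ : GL chevD4.Idx K) :
      Matrix chevD4.Idx chevD4.Idx K) = chevD4.x K r t :=
  adjMat_root modelD4_ok r t

/-- The natural representation. -/
noncomputable def rho : ↥(chevD4.group K) →* GL (Fin 8) K :=
  ((Units.mapEquiv (Matrix.reindexAlgEquiv K K e8.symm).toMulEquiv).toMonoidHom.comp
    ((frameD4.O K).subtype.comp (rootSub frameD4 K).subtype)).comp eqv.symm.toMonoidHom

theorem rho_injective : Function.Injective (rho (K := K)) := by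
  intro a b h
  have := (Units.mapEquiv (Matrix.reindexAlgEquiv K K e8.symm).toMulEquiv).injective h
  exact eqv.symm.injective (Subtype.ext (Subtype.ext this))

theorem rho_x {α : K} (r : Fin 24) {c : ℕ} (hc : c < 8) (g : ↥(chevD4.group K))
    (hg : ((g : GL chevD4.Idx K) : Matrix chevD4.Idx chevD4.Idx K) = chevD4.x K r.1 (sv α c)) :
    (rho g : Matrix (Fin 8) (Fin 8) K) = dec α (xC r c) := by
  have e : g = eqv ⟨rootO modelD4_ok (⟨r.1, r.2⟩ : Fin chevD4.nroots) (sv α c),
      rootO_mem modelD4_ok _ _⟩ := by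
    refine Subtype.ext (Units.ext ?_)
    rw [hg, eqv_rootO]
  rw [e, dec_xC r hc]
  simp only [rho, MonoidHom.comp_apply, MulEquiv.coe_toMonoidHom, MulEquiv.symm_apply_apply]
  rfl

end CfsgLib.D4Two
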